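import Cfsg.Agent.TAB.Th.Slp_m3
import Cfsg.Agent.TAB.J4.RkD_m3
import Cfsg.Agent.H865.RhoEleven
import Cfsg.Agent.Lib.MatDec
import Cfsg.Agent.DZ3.Spor.Tr_m3
import Cfsg.Agent.TAB.Eng.Map
import Cfsg.Agent.H334.Ore.M24
import Cfsg.Agent.S0157
import Cfsg.Agent.H651.StarMain
import Cfsg.Agent.H860.Sixty
import Cfsg.Agent.H337.JankoOfIso
import Cfsg.Agent.FastGrp
import Cfsg.Agent.Prune
set_option linter.all false

-- part: TAB/J4/Elv
section
set_option linter.all false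
open scoped Cfsg.Agent.FastGrp

/-!
# The elements of `J4` which centralize an element of the class 11A (helper55, TAB)
-/

set_option autoImplicit false
set_option maxHeartbeats 400000

namespace Cfsg.Agent.TAB.J4

open Cfsg Subgroup Cfsg.Agent.J4.Rep112 Cfsg.Agent.Lib Cfsg.Agent.Lib.F2MatGroup
open Cfsg.Agent.H860 Cfsg.Agent.H860.TenNon Cfsg.Agent.H860.Rank
open Cfsg.Agent.H858.VK (rho_injective)
open Cfsg.Agent.H859 Cfsg.Agent.H859.Trace43 Cfsg.Agent.TAB.J4.RkD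
open Cfsg.Agent.H865.RhoEleven (SL mem_D card_SL)

theorem two_rank {g : Spor.J4} {n i : ℕ} (h : g ^ 2 ^ n = 1) (hi : i < 10)
    (hr : TenNon.inv (rho g) = tab.getD i (0, 0)) : IsConj (Q i) g := by
  obtain ⟨j, hj, h1⟩ := cover2 h
  obtain ⟨c, hc⟩ := isConj_iff.1 h1
  rw [← hc, map_mul, map_mul, map_inv, inv_conj, rho_Q, inv_rep j hj] at hr
  exact tab_inj j hj i hi hr ▸ h1

theorem runN : run 112 NUData.slp codes (fun L => (rkOk L 23 3 20 Ua Va Wa Xa && rkOk L 210 1 50 Ub Vb Wb Xb) &&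
    xor (trB (evW 112 L [180, 46]) 112) (trB (evW 112 L (List.replicate 10 180 ++ [46])) 112)) = true := by
  decide +kernel

/-- the elements of `SL₂(3)` -/
noncomputable def hs : SL →* Spor.J4 := NU.hom.comp Matrix.SpecialLinearGroup.toGL

theorem hs_inj : Function.Injective hs := NU.hom_injective.comp Matrix.SpecialLinearGroup.toGL_injective

theorem hs_c (s : SL) : Commute (hs s) NU.c := mem_centralizer_singleton_iff.1 (mem_D s)

/-- order 3 -/
def sT : SL := ⟨!![1, 1; 0, 1], by decide⟩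
/-- order 4 -/
def sI : SL := ⟨!![0, 1; 2, 0], by decide⟩
/-- order 2 -/
def sZ : SL := ⟨!![2, 0; 0, 2], by decide⟩

theorem ord_c : orderOf NU.c = 11 := ClassEleven.orderOf_c

theorem ord_hs {s : SL} {n : ℕ} (h0 : 0 < n) (h1 : s ^ n = 1) (h2 : ∀ m < n, 0 < m → s ^ m ≠ 1) :
    orderOf (hs s) = n := by
  rw [orderOf_injective hs hs_inj]
  exact (orderOf_eq_iff h0).2 ⟨h1, h2⟩

theorem ord_chs {s : SL} {n : ℕ} (h : orderOf (hs s) = n) (h3 : Nat.Coprime 11 n) :
    orderOf (NU.c * hs s) = 11 * n := by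
  rw [(hs_c s).symm.orderOf_mul_eq_mul_orderOf_of_coprime (by rwa [ord_c, h]), ord_c, h]

theorem pow_chs (s : SL) (k : ℕ) : (NU.c * hs s) ^ k = NU.c ^ (k % 11) * hs (s ^ k) := by
  rw [(hs_c s).symm.mul_pow, map_pow, ← ord_c, pow_mod_orderOf]

theorem ord_sT : orderOf (hs sT) = 3 := ord_hs (by norm_num) (by decide +kernel) (by decide +kernel)
theorem ord_sI : orderOf (hs sI) = 4 := ord_hs (by norm_num) (by decide +kernel) (by decide +kernel)
theorem ord_sZ : orderOf (hs sZ) = 2 := ord_hs (by norm_num) (by decide +kernel) (by decide +kernel)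
theorem ord_sTZ : orderOf (hs (sT * sZ)) = 6 := ord_hs (by norm_num) (by decide +kernel) (by decide +kernel)

theorem factsN : IsConj (Q 3) (hs sI) ∧ IsConj (Q 1) t ∧ ¬ IsConj (NU.c * hs sT) (NU.c ^ 10 * hs sT) := by
  obtain ⟨L', h1, h2⟩ := run_sound codes_gens runN
  rw [runG_map] at h1
  simp only [Bool.and_eq_true] at h2
  obtain ⟨⟨h3, h4⟩, h5⟩ := h2
  have h6 := rkOk_sound h1 (by norm_num) h3
  have h7 := rkOk_sound h1 (by norm_num) h4
  rw [getG_map] at h6 h7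
  refine ⟨two_rank (n := 2) (by rw [← pow_orderOf_eq_one (hs sI), ord_sI]; rfl) (by norm_num) ?_,
    two_rank (n := 1) (by rw [pow_one, pow_two]; exact H858.Elem.t_sq) (by norm_num) ?_, fun h => ?_⟩
  · rw [TenNon.inv, orderOf_injective rho rho_injective, ord_sI]
    exact congrArg (Prod.mk 4) h6
  · have h8 : getG (runG NUData.slp gens) 210 = t := J4.Classes.getG_runG NUData.slp gens 3
    rw [h8] at h7
    have h9 : orderOf t = 2 := orderOf_eq_prime (by rw [pow_two]; exact H858.Elem.t_sq) fun h => by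
      have h10 := H858.Pent.act_t
      rw [h] at h10
      exact absurd (h10.unique H858.Pent.Act.one) (by decide)
    rw [TenNon.inv, orderOf_injective rho rho_injective, h9]
    exact congrArg (Prod.mk 2) h7
  · have h8 := codes_evW h1 [180, 46]
    have h9 := codes_evW h1 (List.replicate 10 180 ++ [46])
    rw [evG_map] at h8 h9
    have h10 : evG (runG NUData.slp gens) [180, 46] = NU.c * hs sT := by
      rw [evG_cons, evG_cons, evG_nil, mul_one]; rfl
    have h11 : evG (runG NUData.slp gens) (List.replicate 10 180 ++ [46]) = NU.c ^ 10 * hs sT := by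
      rw [PGLWords.evG_append, evG_replicate, evG_cons, evG_nil, mul_one]; rfl
    rw [h10] at h8
    rw [h11] at h9
    have h12 := trace_conj h
    rw [trace_eq h8, trace_eq h9] at h12
    rw [F2Mat.bz_inj h12, Bool.xor_self] at h5
    exact absurd h5 (by decide)

theorem two_I : IsConj (Q 3) (hs sI) := factsN.1

theorem two_t : IsConj (Q 1) t := factsN.2.1

theorem two_Z : IsConj (Q 1) (hs sZ) := by
  have h := (Q_sq (i := 3) (by norm_num)).trans (isConj_pow two_I 2)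
  rwa [← map_pow, show sI ^ 2 = sZ by decide +kernel] at h

theorem ord22 : orderOf (NU.c * hs sZ) = 22 := ord_chs ord_sZ (by norm_num)
theorem ord33 : orderOf (NU.c * hs sT) = 33 := ord_chs ord_sT (by norm_num)
theorem ord44 : orderOf (NU.c * hs sI) = 44 := ord_chs ord_sI (by norm_num)
theorem ord66 : orderOf (NU.c * hs (sT * sZ)) = 66 := ord_chs ord_sTZ (by norm_num)

theorem com_chs {a b : SL} (h : a * b = b * a) : Commute (NU.c * hs a) (NU.c * hs b) :=
  ((Commute.refl _).mul_right (hs_c b).symm).mul_left ((hs_c a).mul_right ((show Commute a b from h).map hs))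

theorem cc_c : cc NU.c = 31944 := CentC.card_D

theorem low22 : 264 ≤ cc (NU.c * hs sZ) := by
  have h1 : 24 ∣ cc (NU.c * hs sZ) := by
    rw [← card_SL, Nat.card_congr (MonoidHom.ofInjective hs_inj).toEquiv]
    refine card_dvd_cc ?_
    rintro _ ⟨s, rfl⟩
    exact (hs_c s).mul_right ((show Commute s sZ from (by decide +kernel : ∀ s : SL, s * sZ = sZ * s) s).map hs)
  have h2 : 11 ∣ cc (NU.c * hs sZ) := ord_c ▸ dvd_cc ((Commute.refl _).mul_right (hs_c _).symm)
  exact Nat.le_of_dvd (cc_pos _) ((by norm_num : Nat.Coprime 24 11).mul_dvd_of_dvd_of_dvd h1 h2)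

theorem low33 : 66 ≤ cc (NU.c * hs sT) :=
  Nat.le_of_dvd (cc_pos _) (ord66 ▸ dvd_cc (com_chs (by decide +kernel)))

theorem nc33 : ¬ IsConj ((NU.c * hs sT) ^ 1) ((NU.c * hs sT) ^ 10) := by
  rw [pow_one, pow_chs, show sT ^ 10 = sT by decide +kernel]
  exact factsN.2.2

theorem nc66 : ¬ IsConj ((NU.c * hs (sT * sZ)) ^ 1) ((NU.c * hs (sT * sZ)) ^ 43) := fun h => by
  have h1 := isConj_pow h 34
  rw [← pow_mul, ← pow_mul, pow_chs, pow_chs, show (sT * sZ) ^ (1 * 34) = sT by decide +kernel,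
    show (sT * sZ) ^ (43 * 34) = sT by (set_option synthInstance.maxSize 20000 in open scoped Cfsg.Agent.Lib.MatDec in decide +kernel)] at h1
  exact factsN.2.2 (by simpa using h1)

theorem two22 : IsConj (Q 1) ((NU.c * hs sZ) ^ 11) := by
  rw [pow_chs, show sZ ^ 11 = sZ by decide +kernel, pow_zero, one_mul]
  exact two_Z

theorem two66 : IsConj (Q 1) ((NU.c * hs (sT * sZ)) ^ 33) := by
  rw [pow_chs, show (sT * sZ) ^ 33 = sZ by decide +kernel, pow_zero, one_mul]
  exact two_Z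

theorem two44 : IsConj (Q 3) ((NU.c * hs sI) ^ 11) := by
  rw [pow_chs, pow_zero, one_mul]
  obtain ⟨s, h⟩ : ∃ s : SL, s * sI = sI ^ 11 * s := by (set_option synthInstance.maxSize 20000 in open scoped Cfsg.Agent.Lib.MatDec in decide +kernel)
  refine two_I.trans (isConj_iff.2 ⟨hs s, ?_⟩)
  rw [← map_mul, h, map_mul, mul_inv_cancel_right]

theorem dvd11 : 11 ∣ cc (Q 3) := by
  rw [cc_conj two_I, ← ord_c]
  exact dvd_cc (hs_c _).symm

end Cfsg.Agent.TAB.J4

private theorem dce_eb8fe182baf5 : _root_.True := by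
  try have : _root_.True := by simp only [_root_.Cfsg.Agent.H860.TenNon.inv.eq_1]
  exact _root_.True.intro
end

-- part: TAB/J4/Fiv
section
set_option linter.all false
open scoped Cfsg.Agent.FastGrp

/-!
# The elements of `J4` whose order is divisible by 5, 7, 29, 31, 37 or 43 (helper55, TAB)
-/

set_option autoImplicit false
set_option maxHeartbeats 400000

namespace Cfsg.Agent.TAB.J4

open Cfsg Subgroup Cfsg.Agent.J4.Rep112 Cfsg.Agent.Lib Cfsg.Agent.Lib.F2MatGroup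
open Cfsg.Agent.H860 Cfsg.Agent.H860.PairGroup
open Cfsg.Agent.SporadicStructure.M24El
open Cfsg.Agent.H858 Cfsg.Agent.H858.Elem Cfsg.Agent.H858.Data
open Cfsg.Agent.H858.VK (rho_injective)
open Cfsg.Agent.H859

theorem card_J4 : Nat.card Spor.J4 = 86775571046077562880 := FixJ4.card_J4

/-! ### primes -/

theorem nc_pow {x : Spor.J4} {m k e : ℕ}
    (h : Nat.card (normalizer ((zpowers (x ^ e) : Subgroup Spor.J4) : Set Spor.J4)) = cc (x ^ e) * m)
    (hk : ¬ k ^ m ≡ 1 [MOD orderOf (x ^ e)]) : ¬ IsConj x (x ^ k) := fun hc => hk (pow_mod h (by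
  rw [← pow_mul, mul_comm, pow_mul]
  exact isConj_pow hc e))

theorem cc_s : cc s = 840 := by rw [← cc_zpowers, ← Loc7.S7_eq', Loc7.card_C]

theorem cc_f : cc f = 6720 := (cc_zpowers f).symm.trans Loc5.card_C

theorem nc7 {x : Spor.J4} {k : ℕ} (e : ℕ) (h : orderOf x = e * 7) (hk : ¬ k ^ 3 ≡ 1 [MOD 7]) :
    ¬ IsConj (x ^ 1) (x ^ k) := by
  have : Fact (Nat.Prime 7) := ⟨by norm_num⟩
  have h0 := orderOf_pos x
  have h1 : orderOf (x ^ e) = 7 := by
    rw [orderOf_pow, h, Nat.gcd_mul_right_left, Nat.mul_div_cancel_left _ (by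
      rw [h] at h0
      exact Nat.pos_of_mul_pos_right h0)]
  have h2 : Nat.card (zpowers (x ^ e)) = 7 := by rw [Nat.card_zpowers, h1]
  have h3 : ¬ 7 * 7 ∣ Nat.card Spor.J4 := by rw [card_J4]; norm_num
  rw [pow_one]
  refine nc_pow (m := 3) (e := e) ?_ (by rwa [h1])
  rw [← cc_zpowers, PrimeSub.card_normalizer_eq h2 Norm57.card_S7 h3,
    PrimeSub.card_centralizer_eq h2 Norm57.card_S7 h3, Loc7.card_C, Norm57.card_normalizer_S7]

theorem ncp {x : Spor.J4} {p m c : ℕ} (hx : orderOf x = p) (h : ∀ {P : Subgroup Spor.J4}, Nat.card P = p →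
    Nat.card (centralizer (P : Set Spor.J4)) = p ∧ Nat.card (normalizer (P : Set Spor.J4)) = p * m)
    (hc : Nat.Coprime p c) (h1 : ¬ c ^ m ≡ 1 [MOD p]) (h2 : ¬ (c * c) ^ m ≡ 1 [MOD p]) :
    [1, c, c * c].Pairwise fun a b => ¬ IsConj (x ^ a) (x ^ b) := by
  have key : ∀ {y : Spor.J4} {k : ℕ}, orderOf y = p → ¬ k ^ m ≡ 1 [MOD p] → ¬ IsConj y (y ^ k) := fun {y k} hy hk => by
    obtain ⟨h3, h4⟩ := h (P := zpowers y) (by rw [Nat.card_zpowers, hy])
    refine nc_pow (m := m) (e := 1) ?_ (by rwa [pow_one, hy])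
    rw [pow_one, ← cc_zpowers, h3, h4]
  simp only [List.pairwise_cons, List.mem_cons, List.not_mem_nil, or_false, forall_eq_or_imp, forall_eq, pow_one,
    IsEmpty.forall_iff, implies_true, List.Pairwise.nil, and_true]
  refine ⟨⟨key hx h1, key hx h2⟩, ?_⟩
  rw [pow_mul]
  exact key ((hx ▸ hc).orderOf_pow.trans hx) h1

theorem exists_ord {p : ℕ} (hp : p.Prime) (h : p ∣ 86775571046077562880) : ∃ x : Spor.J4, orderOf x = p := by
  have : Fact p.Prime := ⟨hp⟩
  exact exists_prime_orderOf_dvd_card' p (card_J4 ▸ h)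

/-! ### the centralizer of `s` -/

/-- the symmetric group -/
noncomputable def eI : Loc7.I0 ≃* Equiv.Perm (Fin 5) := MulEquiv.ofBijective Loc7.pI (by
  rw [Nat.bijective_iff_surjective_and_card]
  refine ⟨Loc7.pI_surjective, ?_⟩
  rw [Loc7.card_I0, Nat.card_eq_fintype_card, Fintype.card_perm, Fintype.card_fin]
  rfl)

/-- the symmetric group in `J4` -/
noncomputable def hp : Equiv.Perm (Fin 5) →* Spor.J4 := Loc7.I0.subtype.comp eI.symm.toMonoidHom

theorem hp_inj : Function.Injective hp := Loc7.I0.subtype_injective.comp eI.symm.injective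

theorem hp_s (σ : Equiv.Perm (Fin 5)) : Commute s (hp σ) :=
  mem_centralizer_iff.1 (Loc7.I0_le_C (eI.symm σ).2) s (Loc7.S7_eq' ▸ mem_zpowers s)

theorem hp_t : hp (Equiv.swap 0 1) = t := by
  have h : eI ⟨t, Loc7.t_mem⟩ = Equiv.swap 0 1 := Pent.p5_eq Pent.act_t
  rw [← h]
  exact congrArg Subtype.val (eI.symm_apply_apply _)

theorem ord_sp {σ : Equiv.Perm (Fin 5)} {n : ℕ} (h0 : 0 < n) (h1 : σ ^ n = 1) (h2 : ∀ m < n, 0 < m → σ ^ m ≠ 1)
    (h3 : Nat.Coprime 7 n) : orderOf (s * hp σ) = n * 7 := by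
  have h : orderOf (hp σ) = n := by
    rw [orderOf_injective hp hp_inj]
    exact (orderOf_eq_iff h0).2 ⟨h1, h2⟩
  rw [(hp_s σ).orderOf_mul_eq_mul_orderOf_of_coprime (by rwa [Loc5.orderOf_s, h]), Loc5.orderOf_s, h, mul_comm]

theorem com_sp {a b : Equiv.Perm (Fin 5)} (h : a * b = b * a) : Commute (s * hp a) (s * hp b) :=
  ((Commute.refl _).mul_right (hp_s b)).mul_left ((hp_s a).symm.mul_right ((show Commute a b from h).map hp))

/-- order 2 -/
def p2 : Equiv.Perm (Fin 5) := Equiv.swap 0 1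
/-- order 3 -/
def p3 : Equiv.Perm (Fin 5) := Equiv.swap 2 3 * Equiv.swap 3 4

theorem ord14 : orderOf (s * hp p2) = 2 * 7 := ord_sp (by norm_num) (by decide +kernel) (by decide +kernel) (by norm_num)
theorem ord21 : orderOf (s * hp p3) = 3 * 7 := ord_sp (by norm_num) (by decide +kernel) (by decide +kernel) (by norm_num)
theorem ord42 : orderOf (s * hp (p2 * p3)) = 6 * 7 :=
  ord_sp (by norm_num) (by decide +kernel) (by decide +kernel) (by norm_num)

theorem low21 : 42 ≤ cc (s * hp p3) :=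
  Nat.le_of_dvd (cc_pos _) ((ord42.trans (by norm_num : 6 * 7 = 42)) ▸
    dvd_cc (com_sp (a := p2 * p3) (by decide +kernel)))

theorem low14 : 84 ≤ cc (s * hp p2) := by
  have h := two_mul_le_cc (x := s * hp p2) (y := s * hp (Equiv.swap 2 3)) (K := zpowers (s * hp (p2 * p3))) (by
    rintro _ ⟨n, rfl⟩
    exact (com_sp (by decide +kernel)).zpow_left n) (com_sp (by decide +kernel)) (by
      rintro ⟨n, hn⟩
      have h1 : Commute (s * hp (Equiv.swap 2 3)) (s * hp (p2 * p3)) := hn ▸ (Commute.refl _).zpow_left n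
      have h2 : Commute (hp (Equiv.swap 2 3)) (hp (p2 * p3)) := by
        have h3 := (h1.pow_left 7).pow_right 7
        rw [(hp_s _).mul_pow, (hp_s _).mul_pow, Loc7.s_pow, one_mul, one_mul, ← map_pow, ← map_pow] at h3
        rwa [show Equiv.swap (2 : Fin 5) 3 ^ 7 = Equiv.swap 2 3 by decide +kernel,
          show (p2 * p3) ^ 7 = p2 * p3 by decide +kernel] at h3
      exact absurd (hp_inj ((map_mul hp _ _).trans (h2.eq.trans (map_mul hp _ _).symm))) (by decide +kernel))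
  rwa [Nat.card_zpowers, ord42] at h

theorem two14 : IsConj (Q 1) ((s * hp p2) ^ 7) := by
  rw [(hp_s _).mul_pow, Loc7.s_pow, one_mul, ← map_pow, show p2 ^ 7 = Equiv.swap 0 1 by decide +kernel, hp_t]
  exact two_t

theorem two42 : IsConj (Q 1) ((s * hp (p2 * p3)) ^ 21) := by
  rw [(hp_s _).mul_pow, show s ^ 21 = 1 by rw [show 21 = 7 * 3 from rfl, pow_mul, Loc7.s_pow, one_pow], one_mul,
    ← map_pow, show (p2 * p3) ^ 21 = Equiv.swap 0 1 by decide +kernel, hp_t]
  exact two_t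

/-! ### the centralizer of `f` -/

/-- the code of `s` -/
def cs : ℕ × ℕ := (0, 847851038014418837357088476429308963)
/-- the code of `j` -/
def cj : ℕ × ℕ := (1224, 170874682899346549964468986301863072)

theorem s_E : s = E cs := rho_injective (JJ4.rho_s.trans (rho_E _).symm)
theorem j_E : j = E cj := rho_injective (JJ4.rho_j.trans (rho_E _).symm)

theorem ok_cj : ok cj.2 = true := by decide +kernel
theorem ok_cs : ok cs.2 = true := by decide +kernel

theorem ord_f : orderOf f = 5 := by rw [← Nat.card_zpowers]; exact Loc5.card_F5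

theorem ord_j : orderOf j = 8 := by
  rw [j_E]
  exact ord_of (ps := [2]) (by decide +kernel) (by norm_num) fun p hp h =>
    List.mem_singleton.2 ((Nat.prime_dvd_prime_iff_eq hp Nat.prime_two).1 (hp.dvd_of_dvd_pow (n := 3) h))

theorem com_fJ {k : Spor.J4} (hk : k ∈ Loc5.J) : Commute f k :=
  mem_centralizer_iff.1 (Loc5.J_le_C hk) f (mem_zpowers f)

theorem com_fj (a : ℕ) : Commute f (j ^ a) := com_fJ (pow_mem Loc5.j_mem a)

theorem pow_fj (a k : ℕ) : (f * j ^ a) ^ k = f ^ (k % 5) * j ^ (a * k % 8) := by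
  rw [(com_fj a).mul_pow, ← pow_mul, ← ord_f, ← ord_j, pow_mod_orderOf, pow_mod_orderOf]

theorem ord_fj (a : ℕ) : orderOf (f * j ^ a) = 5 * (8 / Nat.gcd 8 a) := by
  have h : orderOf (j ^ a) = 8 / Nat.gcd 8 a := by rw [orderOf_pow, ord_j]
  rw [(com_fj a).orderOf_mul_eq_mul_orderOf_of_coprime (by
    rw [ord_f]
    exact Nat.Coprime.coprime_dvd_right (ord_j ▸ orderOf_pow_dvd a) (by norm_num)), ord_f, h]

theorem ord35 : orderOf (f * s) = 5 * 7 := by
  rw [(com_fJ Loc5.s_mem).orderOf_mul_eq_mul_orderOf_of_coprime (by rw [ord_f, Loc5.orderOf_s]; norm_num), ord_f,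
    Loc5.orderOf_s]

/-- the list is closed under the conjugation by `s` and `j` -/
def clB (L : List (ℕ × ℕ)) : Bool :=
  L.all (fun x => ok x.2) && L.all fun x => [cs, cj].all fun c => L.any fun y => eqc (mc c x) (mc y c)

theorem orb_J {L : List (ℕ × ℕ)} (h : clB L = true) {a : ℕ × ℕ} (ha : a ∈ L) {k : Spor.J4} (hk : k ∈ Loc5.J) :
    ∃ y ∈ L, E y = k * E a * k⁻¹ := by
  simp only [clB, Bool.and_eq_true, List.all_eq_true, List.any_eq_true] at h
  refine conj_mem_of_closure (S := {g | ∃ y ∈ L, E y = g}) ?_ hk _ ⟨a, ha, rfl⟩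
  have key : ∀ c ∈ [cs, cj], ok c.2 = true → ∀ x ∈ L, ∃ y ∈ L, E y = E c * E x * (E c)⁻¹ := fun c hc h1 x hx => by
    obtain ⟨y, hy, h2⟩ := h.2 x hx c hc
    exact ⟨y, hy, (cj_of (by simp only [cjB, h1, h.1 x hx, h.1 y hy, h2, Bool.and_self])).symm⟩
  rintro _ (rfl | rfl) _ ⟨x, hx, rfl⟩
  · exact s_E ▸ key cs (by simp) ok_cs x hx
  · exact j_E ▸ key cj (by simp) ok_cj x hx

theorem low_J {L : List (ℕ × ℕ)} (h : clB L = true) {a b : ℕ} (ha : Tab.pw cj a ∈ L) (hb : b * L.length ≤ 5 * 1344) :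
    b ≤ cc (f * j ^ a) := by
  classical
  refine le_of_orbit Loc5.J _ (L.map fun y => f * E y).toFinset (fun k hk => ?_) Loc5.card_J
    ((List.toFinset_card_le _).trans (List.length_map _).le)
    (ord_f ▸ dvd_cc ((Commute.refl f).mul_right (com_fj a))) (by norm_num) hb
  obtain ⟨y, hy, h1⟩ := orb_J h ha hk
  refine List.mem_toFinset.2 (List.mem_map.2 ⟨y, hy, ?_⟩)
  rw [h1, E_pw ok_cj, ← j_E, ← mul_assoc, ← mul_assoc, ← mul_assoc, (com_fJ hk).eq]

/-- the class of `j ^ 4` in `J` -/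
def oA : List (ℕ × ℕ) := [(1394, 984818244535754528103549039458486304), (1563, 984818244535754528103549039458486304), (165, 984818244535754528103549039458486304),
  (1726, 984818244535754528103549039458486304), (873, 984818244535754528103549039458486304), (1495, 984818244535754528103549039458486304),
  (972, 984818244535754528103549039458486304)]

/-- the class of `j ^ 2` in `J` -/
def oB : List (ℕ × ℕ) := [(1234, 70585895573978412623092503664513760), (1537, 207856082890797559722347236596757142), (217, 881043295411814134283149423163118720),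
  (26, 194793982009767551933109912229402243), (528, 183522355955539839095876565733573712), (1796, 894013442423456861128116349602181280),
  (124, 527224265841360618866437174137999494), (217, 83915442407724642926385490054732950), (1204, 236292928487794268003718766006981293),
  (944, 527224265841360618866437174137999494), (938, 901803286448115792772728721502212480), (1661, 224653814652323255450568424658523520),
  (377, 834853710334292143972364268160615488), (1224, 839072233265124778766700075840278706), (528, 527856405392348986862409876434748498),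
  (1224, 111812629042434917999848898310462627), (1796, 111812629042434917999848898310462627), (377, 183522355955539839095876565733573712),
  (1198, 834853710334292143972364268160615488), (723, 839072233265124778766700075840278706), (1234, 64991483524447903447579057205663462),
  (522, 527064448181238049308900257064654496), (416, 62526373840948765062989544689865453), (1661, 190357057578380765495588216513238400),
  (1700, 87175839523027840835084903875567232), (522, 236292928487794268003718766006981293), (1204, 859395626131053919240083639591187120),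
  (938, 190357057578380765495588216513238400), (26, 207856082890797559722347236596757142), (1912, 527064448181238049308900257064654496),
  (1537, 87175839523027840835084903875567232), (1752, 224653814652323255450568424658523520), (1752, 901803286448115792772728721502212480),
  (416, 70585895573978412623092503664513760), (124, 881043295411814134283149423163118720), (944, 83915442407724642926385490054732950), (713,
  64991483524447903447579057205663462), (1700, 194793982009767551933109912229402243), (713, 62526373840948765062989544689865453), (723,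
  894013442423456861128116349602181280), (1198, 527856405392348986862409876434748498), (1912, 859395626131053919240083639591187120)]

theorem cl_oA : clB oA = true := by decide +kernel
theorem cl_oB : clB oB = true := by decide +kernel

theorem low10 : 960 ≤ cc (f * j ^ 4) := low_J cl_oA (by decide +kernel) (by decide)
theorem low20 : 160 ≤ cc (f * j ^ 2) := low_J cl_oB (by decide +kernel) (by decide)

theorem two_j2 : IsConj (Q 3) (j ^ 2) := by
  rw [j_E, ← E_pw ok_cj]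
  exact two_of (c := 26670639957516516763227951561070674) (j := 1) (by decide +kernel)

theorem two_j5 : IsConj (Q 7) (j ^ 5) := by
  rw [j_E, ← E_pw ok_cj]
  exact two_of (c := 18847059460234177810547642840753234) (j := 4) (by decide +kernel)

theorem two10 : IsConj (Q 1) ((f * j ^ 4) ^ 5) := by
  have h := (Q_sq (i := 3) (by norm_num)).trans (isConj_pow two_j2 2)
  rw [← pow_mul] at h
  rwa [pow_fj, pow_zero, one_mul]

theorem two20 : IsConj (Q 3) ((f * j ^ 2) ^ 5) := by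
  rw [pow_fj, pow_zero, one_mul]
  exact two_j2

theorem two40 : IsConj (Q 7) ((f * j ^ 1) ^ 5) := by
  rw [pow_fj, pow_zero, one_mul]
  exact two_j5

theorem dvd5 : 5 ∣ cc (Q 3) ∧ 5 ∣ cc (Q 7) := by
  rw [cc_conj two_j2, cc_conj two_j5, ← ord_f]
  exact ⟨dvd_cc (com_fj _), dvd_cc (com_fj _)⟩

/-- the code of `r⁻¹ j ^ 2 r` -/
def cu : ℕ × ℕ := mc cs (mc cj (mc cs (mc cj (mc cj (mc cs (mc cs cs))))))

theorem checkR : check 112 codes (J4.LowerData.slpQ ++ slpX) [([0, 0, 2], [2, 9, 0, 9, 0, 0, 9, 9, 9])] [] = true := by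
  decide +kernel

theorem conj_r : j ^ 2 * r = r * E cu := by
  have h := (PGLWords.check_J4 checkR).1 _ List.mem_cons_self
  rw [J4.Classes.runG_append] at h
  simp only [evG_cons, evG_nil, mul_one] at h
  have h1 : j * (j * r) = r * (s * (j * (s * (j * (j * (s * (s * s))))))) := by
    rw [j_eq, r_eq, sg_eq]
    exact h
  have k1 := ok_mc ok_cs (ok_mc ok_cs ok_cs)
  have k2 := ok_mc ok_cj (ok_mc ok_cj k1)
  rw [pow_two, mul_assoc, h1, s_E, j_E, cu, E_mc ok_cs (ok_mc ok_cj (ok_mc ok_cs k2)), E_mc ok_cj (ok_mc ok_cs k2),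
    E_mc ok_cs k2, E_mc ok_cj (ok_mc ok_cj k1), E_mc ok_cj k1, E_mc ok_cs (ok_mc ok_cs ok_cs), E_mc ok_cs ok_cs]

theorem ne_cu {y : ℕ × ℕ} (hy : y ∈ oB) : E y ≠ E cu := fun h9 => by
  have h10 : ∀ y ∈ oB, ok y.2 = true ∧ y.1 < 2048 ∧ eqc (mc y (0, idP)) (mc cu (0, idP)) = false := by
    decide +kernel
  have h14 : ok cu.2 = true ∧ cu.1 < 2048 := by decide +kernel
  obtain ⟨h11, h12, h13⟩ := h10 y hy
  exact E_ne' (b := (0, idP)) (d := (0, idP)) h11 ok_idP h14.1 ok_idP h12 h14.2 h13 (by rw [h9])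

theorem nc20 : ¬ IsConj ((f * j ^ 2) ^ 1) ((f * j ^ 2) ^ 17) := fun h => by
  obtain ⟨g, hg⟩ := isConj_iff.1 h
  have h3 : (g * (f * j ^ 2) ^ 1 * g⁻¹) ^ 16 = ((f * j ^ 2) ^ 17) ^ 16 := by rw [hg]
  have h4 : (g * (f * j ^ 2) ^ 1 * g⁻¹) ^ 5 = ((f * j ^ 2) ^ 17) ^ 5 := by rw [hg]
  rw [conj_pow, ← pow_mul (f * j ^ 2), ← pow_mul (f * j ^ 2), pow_fj, pow_fj] at h3 h4
  simp only [Nat.reduceMul, Nat.reduceMod, pow_zero, pow_one, mul_one, one_mul] at h3 h4
  have h5 : r⁻¹ * g ∈ centralizer (Loc5.F5 : Set Spor.J4) := by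
    rw [Loc5.F5, zpowers_eq_closure, centralizer_closure, mem_centralizer_singleton_iff]
    calc r⁻¹ * g * f = r⁻¹ * (g * f * g⁻¹ * r) * r⁻¹ * g := by group
      _ = f * (r⁻¹ * g) := by rw [h3, pow_two, ← r_mul_f]; group
  obtain ⟨a, ha, k, hk, h6⟩ := CountDirect.exists_mul Loc5.directProduct h5
  obtain ⟨y, hy, h7⟩ := orb_J cl_oB (a := Tab.pw cj 2) (by decide +kernel) hk
  rw [E_pw ok_cj, ← j_E] at h7
  have h11 : E y ∈ Loc5.J := by
    rw [h7]
    exact mul_mem (mul_mem hk (pow_mem Loc5.j_mem 2)) (inv_mem hk)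
  have h8 : a * E y = E y * a := mem_centralizer_iff.1 (Loc5.J_le_C h11) a ha
  refine ne_cu hy ?_
  have h9 := conj_r
  generalize E cu = u at h9
  generalize E y = w at h7 h8
  calc w = a * w * a⁻¹ := by rw [h8, mul_inv_cancel_right]
    _ = (a * k) * j ^ 2 * (a * k)⁻¹ := by rw [h7]; group
    _ = r⁻¹ * (g * j ^ 2 * g⁻¹ * r) := by rw [← h6]; group
    _ = u := by rw [h4, h9, inv_mul_cancel_left]

theorem nc40 : ¬ IsConj ((f * j ^ 1) ^ 1) ((f * j ^ 1) ^ 17) := fun h => by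
  have h1 := isConj_pow h 26
  rw [← pow_mul (f * j ^ 1), ← pow_mul (f * j ^ 1), pow_fj, pow_fj] at h1
  apply nc20
  rw [pow_fj, pow_fj]
  exact h1

end Cfsg.Agent.TAB.J4

private theorem dce_f8a093251ce1 : _root_.True := by
  try have : _root_.True := by simp only [_root_.Cfsg.Agent.TAB.J4.clB.eq_1]
  try have : _root_.True := by simp only [_root_.Cfsg.Agent.TAB.J4.cu.eq_1]
  exact _root_.True.intro
end

-- part: TAB/Th/RepA
section
set_option linter.all false

/-!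
# Traces of the powers of the representatives (helper98, TAB)
-/

set_option autoImplicit false
set_option Elab.async false
set_option maxRecDepth 100000

namespace Cfsg.Agent.TAB.Th

open Cfsg Cfsg.Agent.Th.Word Cfsg.Agent.Th.IndexUpper

theorem fct29 : ∀ q ∈ (1, 7936) :: exps [(0, 0, 8000), (0, 1, 7936), (1, 1, 7872), (1, 1, 8192), (1, 1, 8384)] [1], Fct (ev gTh [3, 4, 8] ^ q.1) q.2 :=
  (rt_evL 3 [4, 8]).slp (by decide +kernel)

theorem fct30 : ∀ q ∈ (1, 7936) :: exps [(0, 0, 7936), (0, 1, 7936), (1, 1, 8064), (1, 1, 7936), (1, 1, 7808)] [1], Fct (ev gTh [4, 7, 10] ^ q.1) q.2 :=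
  (rt_evL 4 [7, 10]).slp (by decide +kernel)

theorem fct25 : ∀ q ∈ (1, 7872) :: exps [(0, 0, 8000), (0, 1, 7968), (0, 0, 8096)] [1], Fct (ev gTh [1, 4, 5, 6] ^ q.1) q.2 :=
  (rt_evL 1 [4, 5, 6]).slp (by decide +kernel)

theorem fct33 : ∀ q ∈ (1, 7968) :: exps [(0, 0, 7904), (0, 1, 0), (1, 1, 8032), (0, 1, 8192)] [1], Fct (ev gTh [3, 4, 5, 7] ^ q.1) q.2 :=
  (rt_evL 3 [4, 5, 7]).slp (by decide +kernel)

theorem fct34 : ∀ q ∈ (1, 7904) :: exps [(0, 0, 7968), (0, 1, 8000), (0, 1, 8064), (1, 1, 7872), (1, 1, 7808)] [1], Fct (ev gTh [4, 5, 7, 11] ^ q.1) q.2 :=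
  (rt_evL 4 [5, 7, 11]).slp (by decide +kernel)

theorem fct36 : ∀ q ∈ (1, 7904) :: exps [(0, 0, 7968), (0, 1, 7904), (1, 1, 8096), (1, 1, 7968), (0, 2, 8192), (1, 1, 8096)] [1], Fct (ev gTh [4, 5, 8, 10, 6] ^ q.1) q.2 :=
  (rt_evL 4 [5, 8, 10, 6]).slp (by decide +kernel)

theorem fct37 : ∀ q ∈ (1, 7904) :: exps [(0, 0, 7968), (0, 1, 7904), (1, 1, 8096), (1, 1, 7968), (0, 2, 8192), (1, 1, 8096)] [1], Fct (ev gTh [4, 5, 10, 7] ^ q.1) q.2 :=
  (rt_evL 4 [5, 10, 7]).slp (by decide +kernel)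

theorem fct27 : ∀ q ∈ (1, 7936) :: exps [(0, 0, 8000), (0, 0, 7872), (0, 2, 7936)] [1], Fct (ev gTh [4, 6, 8, 10] ^ q.1) q.2 :=
  (rt_evL 4 [6, 8, 10]).slp (by decide +kernel)

theorem fct28 : ∀ q ∈ (1, 7936) :: exps [(0, 0, 0), (0, 1, 8032), (0, 0, 0), (0, 3, 8384), (0, 0, 0), (0, 1, 1)] [1], Fct (ev gTh [2, 3, 6] ^ q.1) q.2 :=
  (rt_evL 2 [3, 6]).slp (by decide +kernel)

theorem fct38 : ∀ q ∈ (1, 7968) :: exps [(0, 0, 0), (0, 1, 7968), (0, 0, 0), (0, 0, 0), (0, 4, 8384), (0, 0, 0), (0, 1, 1)] [1], Fct (ev gTh [2, 11, 4, 11, 8] ^ q.1) q.2 :=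
  (rt_evL 2 [11, 4, 11, 8]).slp (by decide +kernel)

theorem fct26 : ∀ q ∈ (1, 7968) :: exps [(0, 0, 0), (0, 0, 0), (0, 0, 0), (0, 3, 0), (0, 0, 0), (0, 5, 1)] [1], Fct (ev gTh [2, 4, 5, 7, 11] ^ q.1) q.2 :=
  (rt_evL 2 [4, 5, 7, 11]).slp (by decide +kernel)

theorem fct35 : ∀ q ∈ (1, 7936) :: exps [(0, 0, 0), (0, 1, 0), (0, 0, 0), (0, 3, 0), (0, 0, 0), (0, 5, 0), (0, 0, 0), (0, 7, 1)] [1], Fct (ev gTh [2, 3, 5, 7, 11, 4] ^ q.1) q.2 :=
  (rt_evL 2 [3, 5, 7, 11, 4]).slp (by decide +kernel)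

theorem fct2 : ∀ q ∈ (1, 8384) :: exps [] [1], Fct (ev gTh [8] ^ q.1) q.2 :=
  (rt_evL 8 []).slp (by decide +kernel)

theorem fct3 : ∀ q ∈ (1, 8096) :: exps [] [1], Fct (ev gTh [4, 5] ^ q.1) q.2 :=
  (rt_evL 4 [5]).slp (by decide +kernel)

theorem fct4 : ∀ q ∈ (1, 7808) :: exps [] [1], Fct (ev gTh [4, 8, 10, 4, 10] ^ q.1) q.2 :=
  (rt_evL 4 [8, 10, 4, 10]).slp (by decide +kernel)

end Cfsg.Agent.TAB.Th
end

-- part: TAB/Th/Tab
section
prune_inst 0x7f00000000000000000000000000000000000000000000000000000000000000000000000000000000000000000000000000000000000000000000000000000000000000000000000000000000000000003fffffffffffffffffffffffffffbeffbdffffffff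
set_option linter.all false
open scoped Cfsg.Agent.FastGrp

/-!
# The character table of the Thompson group from the types (helper98, TAB)
-/

set_option autoImplicit false
set_option maxRecDepth 100000

namespace Cfsg.Agent.TAB.Th

open Cfsg Cfsg.Agent.TAB.Eng Cfsg.Agent.TAB.Co Cfsg.Agent.TAB.Use

/-- the rational irreducible characters -/
def rowA : List (List ℤ) :=
  [[1, 1, 1, 1, 1, 1, 1, 1, 1, 1, 1, 1, 1, 1, 1, 1, 1, 1, 1, 1, 1, 1, 1, 1, 1, 1, 1, 1, 1, 1, 1, 1, 1, 1, 1, 1, 1, 1,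
     1],
    [248, -8, 14, 5, -4, 8, 0, -2, 4, -2, 1, 3, 0, 0, 5, -4, 2, 2, 2, -1, 0, 1, -1, 1, 1, -2, 1, 0, 0, 0, 0, 2, -1, 1,
     -1, 0, -1, -1, 1],
    [4123, 27, 64, -8, 1, 27, -5, -2, 9, 0, 0, 7, 3, -1, -8, 1, 4, 2, 0, 0, 1, 2, -1, 1, 0, 0, 0, 0, 1, 0, -1, -2, 1,
     -1, -1, 0, 0, 0, -1],
    [30628, -92, 91, 10, 10, 36, 4, 3, 10, -5, -2, 3, -4, 0, 10, 10, 1, 3, 3, 0, -2, 0, -1, 0, -2, 1, 0, -1, 0, -1, 0,
     1, 1, 1, 0, 0, 0, 0, 0],
    [30875, 155, 104, 14, 5, 27, -5, 0, 5, 8, 2, 5, 3, -1, 14, 5, 2, 0, 0, 0, 1, 0, 1, 0, 2, 2, 0, 0, -1, 0, -1, 2,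
     -1, -1, 0, -1, 0, 0, 0],
    [61256, 72, 182, 20, 20, 56, 0, 6, 12, 6, 0, 6, 0, 0, -7, -7, 2, 2, 2, 2, 0, 0, 2, 0, -3, 0, 0, 0, 0, 0, 0, -1,
     -1, 0, 2, 0, -1, -1, 0],
    [147250, 50, 181, -8, -35, 34, 10, 0, 5, 5, -4, 5, 2, -2, 19, -8, 1, 0, 1, -2, 1, -1, 1, 0, -1, -1, 0, 0, -1, -1,
     1, 1, 1, -1, 0, 0, 1, 1, -1],
    [957125, -315, 650, -52, -25, 133, 5, 0, 15, -6, 0, 8, -3, 1, -25, 2, 2, 0, -2, -2, -1, 0, 0, 0, 3, 0, 0, 0, -1,
     0, 1, -1, -1, 0, 0, 0, 1, 1, 0],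
    [2450240, 832, 260, 71, 44, 64, 0, -10, 4, 4, -5, -5, 0, 0, 17, -10, -1, 2, 4, 1, 0, 0, -1, -1, 1, 1, 0, 0, 1, 0,
     0, -1, -1, 1, -1, 0, 1, 1, 0],
    [2572752, -1072, 624, 111, 84, 48, 0, 2, -4, -16, -1, 7, 0, 0, 30, 3, 3, -2, 0, 3, 0, 0, -1, -1, 2, -1, 0, 0, 1,
     0, 0, 0, 0, -1, 1, 0, 0, 0, 0],
    [3376737, 609, 819, 9, 9, 161, 1, -13, 9, 3, -3, 0, 1, 1, 9, 9, 0, -1, -1, -1, 1, 0, 0, -1, -3, 0, 0, 1, 0, 1, 1,
     0, 0, 0, -1, 0, -1, -1, 0],
    [4123000, 120, 118, 19, -80, 8, 0, 0, 0, 6, 3, -7, 0, 0, 19, 1, 4, 0, 2, -1, 0, -2, 1, 0, 3, 0, 0, 0, -1, 0, 0,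
     -2, 1, 1, 0, 0, -1, -1, 1],
    [4881384, 1512, 729, 0, 0, 72, 24, 9, 0, 9, 0, 4, 8, 0, 0, 0, 0, -3, -3, 0, 0, 1, 0, 0, 0, 0, -1, -1, 1, -1, 0, 0,
     0, 2, 0, 0, 0, 0, 1],
    [4936750, -210, 637, -38, -65, 126, -10, 0, 15, -3, 6, 0, -2, 2, 16, -11, -2, 0, -3, 0, -1, 0, 0, 0, 0, 0, -1, 0,
     0, 1, -1, 1, 1, 0, 0, 0, 0, 0, 0],
    [10822875, -805, 924, 141, -75, 91, -5, 0, 5, -4, 5, 0, 3, -1, -21, 6, -3, 0, 4, 1, 1, -2, 0, 0, -1, -1, 0, 0, 0,
     0, -1, 0, 0, 0, 0, 0, 1, 1, 1],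
    [11577384, 552, 351, 135, 0, -120, 24, 9, 0, 15, 3, 7, -8, 0, 0, 0, 0, -3, 3, -3, 0, 0, -1, 0, 0, 0, 0, -1, 1, 1,
     0, 0, 0, -1, 0, 0, 0, 0, 0],
    [16539120, 2544, 0, 297, -54, 48, 16, -5, -6, 0, -3, 3, 0, 0, 0, 0, 0, -1, 0, 3, -2, 0, 3, 1, 0, 0, 0, 1, 0, 0, 0,
     0, 0, -1, -1, 0, 0, 0, 0],
    [18154500, 1540, -273, 213, -30, -28, 20, 0, 10, -17, 1, 0, -4, 0, -3, -3, -3, 0, -1, -1, 2, 0, 0, 0, 1, 1, 0, 0,
     0, -1, 0, 0, 0, 0, 0, 1, -1, -1, 0],
    [28861000, 840, 1078, -110, 160, 56, 0, 0, 0, 6, -6, 0, 0, 0, -29, -2, -2, 0, 2, 2, 0, -1, 0, 0, 3, 0, 0, 0, 0, 0,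
     0, 1, 1, 0, 0, 0, -1, -1, -1],
    [30507008, 0, 896, -184, 32, 0, 0, 8, 0, 0, 0, 0, 0, 0, 32, 5, -4, 0, 0, 0, 0, -1, 0, 2, 0, 0, 0, 0, 0, 0, 0, -1,
     -1, 0, 0, 1, 0, 0, -1],
    [40199250, 3410, -78, 3, 165, -62, 10, 0, 5, 2, -1, -7, -6, 2, 3, 3, 3, 0, -2, 1, 1, 0, 1, 0, -1, -1, 0, 0, -1, 0,
     -1, 0, 0, 1, 0, 0, 1, 1, 0],
    [44330496, 3584, 168, 6, -156, 0, 0, -4, -4, 8, 2, 0, 0, 0, 6, 6, -3, 4, 0, 0, 0, 2, 0, -1, 2, -1, 0, 0, 0, 0, 0,
     0, 0, 0, 1, 0, 0, 0, -1],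
    [51684750, 2190, 0, 108, 135, -162, -10, 0, 15, 0, 12, -9, 6, -2, 0, 0, 0, 0, 0, 0, -1, 0, -1, 0, 0, 0, 0, 0, 0,
     0, 1, 0, 0, -1, 0, 0, 0, 0, 0],
    [72925515, -2997, 0, 0, 0, 27, 51, 15, 0, 0, 0, -9, 3, 3, 0, 0, 0, 3, 0, 0, 0, 0, -1, 0, 0, 0, 0, 1, 0, 0, 0, 0,
     0, -1, 0, -1, 0, 0, 0],
    [76271625, -2295, 729, 0, 0, 153, -15, 0, 0, 9, 0, -11, -7, -3, 0, 0, 0, 0, -3, 0, 0, 1, 1, 0, 0, 0, 1, 0, 1, -1,
     0, 0, 0, -1, 0, 0, 0, 0, 1],
    [77376000, 2560, 1560, -60, -60, 0, 0, 0, -20, -8, 4, 2, 0, 0, -6, -6, 3, 0, 0, 0, 0, 0, -2, 0, -2, 1, 1, 0, -1,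
     0, 0, 0, 0, 0, 0, 0, 0, 0, 0],
    [81153009, -783, -729, 0, 0, 225, 9, 9, 0, -9, 0, -7, 1, -3, 0, 0, 0, -3, 3, 0, 0, 2, 1, 0, 0, 0, 0, -1, -1, 1, 0,
     0, 0, 1, 0, 0, 0, 0, -1],
    [91171899, 315, 0, 243, 0, -21, -45, 24, 0, 0, -9, 0, 3, 3, 0, 0, 0, 0, 0, -3, 0, 0, 0, 0, 0, 0, 0, 0, 0, 0, 0, 0,
     0, 0, 0, 0, 0, 0, 0],
    [111321000, 3240, -1728, -216, 0, 216, 0, 0, 0, 0, 0, 7, 0, 0, 0, 0, 0, 0, 0, 0, 0, -2, -1, 0, 0, 0, 0, 0, 1, 0,
     0, 0, 0, -1, 0, 0, 0, 0, 1],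
    [190373976, -3240, 0, 0, 0, -216, 0, -24, 0, 0, 0, 9, 0, 0, 0, 0, 0, 0, 0, 0, 0, 0, 1, 0, 0, 0, -1, 0, 0, 0, 0, 0,
     0, 1, 0, 0, 0, 0, 0]]

/-- the sums of the pairs -/
def rowB : List (List ℤ) :=
  [[54000, 240, -54, 54, 0, 16, 0, 0, 0, -6, 6, 2, 0, 0, 0, 0, 0, 0, -2, -2, 0, -2, 2, 0, 0, 0, 2, 0, 2, 0, 0, 0, 0,
     2, 0, -2, 4, -2, -2],
    [171990, -42, 0, -54, 54, -42, 22, -10, 6, 0, -6, 0, 6, -2, 0, 0, 0, -2, 0, -6, -2, 0, 0, -1, 0, 0, 2, 2, 0, 0,
     -2, 0, 0, 0, 1, 2, 0, 0, 0],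
    [1535274, 810, 0, 0, 0, -54, -6, 24, 0, 0, 0, 6, -6, -6, 0, 0, 0, 0, 0, 0, 0, 0, -2, 0, 0, 0, -2, 4, 0, 0, 0, 0,
     0, 2, 0, -1, 0, 0, 0],
    [1558494, -546, -378, -108, 0, 126, -18, -6, 0, 6, 12, 0, -2, 6, 0, 0, 0, -6, 6, 0, 0, 2, 0, 0, 0, 0, 0, 2, 0, -2,
     0, 0, 0, 0, 0, 0, 0, 0, -1],
    [3414528, -1536, 0, -108, 108, 0, 0, 28, -12, 0, 12, 12, 0, 0, 0, 0, 0, 4, 0, 0, 0, 0, 4, -2, 0, 0, 0, 0, 0, 0, 0,
     0, 0, 0, -2, 2, 0, 0, 0],
    [8192000, 0, 128, -16, -160, 0, 0, 0, 0, 0, 0, -16, 0, 0, -16, 2, 8, 0, 0, 0, 0, -2, 0, 0, 0, 0, -2, 0, 2, 0, 0,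
     2, -1, 0, 0, 2, 0, 0, -2],
    [13338000, -2160, -702, 216, 0, 112, 0, 0, 0, 18, 0, 4, 0, 0, 0, 0, 0, 0, -2, 4, 0, 0, -4, 0, 0, 0, 0, 0, -2, 0,
     0, 0, 0, 0, 0, 2, 4, -2, 0],
    [13392000, -1920, -756, 270, 0, 128, 0, 0, 0, 12, 6, 6, 0, 0, 0, 0, 0, 0, -4, 2, 0, -2, -2, 0, 0, 0, 2, 0, 0, 0,
     0, 0, 0, 2, 0, 0, -4, 2, -2],
    [42653520, 336, 0, -270, -216, -336, 0, 20, 24, 0, -6, 0, 0, 0, 0, 0, 0, -4, 0, 6, 0, 0, 0, -1, 0, 0, 2, 0, 0, 0,
     0, 0, 0, 0, -1, 0, 0, 0, 0]]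

/-- the constant one -/
def one : List ℤ := List.replicate 39 1

/-- the number of square roots -/
def sd1 : List ℤ := [976841776, 12336, 7372, 730, 82, 1008, 80, 26, 90, 12, 6, 22, 0, 0, 82, 1, 10, 6, 12, 0, 2, 1, 2, 2, 6, 0, 1, 0,
    1, 0, 0, 1, 1, 0, 0, 1, 0, 0, 1]

/-- the number of cube roots -/
def sd2 : List ℤ := [717890163201, 240129, 0, 3645, 0, 6273, 321, 201, 0, 0, 45, 57, 33, 9, 0, 81, 0, 9, 0, 9, 0, 3, 1, 0, 0, 0, 1, 1,
    0, 0, 0, 0, 0, 1, 0, 1, 0, 0, 0]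

/-- permutation character on the cosets of a cyclic group `36A` -/
def sd3 : List ℤ := [2520720663552000, 2580480, 0, 26244, 0, 21504, 0, 0, 0, 0, 36, 0, 0, 0, 972, 0, 0, 0, 0, 12, 0, 0, 0, 0, 12, 0,
    0, 0, 0, 0, 0, 0, 0, 0, 0, 0, 12, 0, 0]

/-- permutation character on the cosets of a cyclic group `36BC` -/
def sd4 : List ℤ := [2520720663552000, 2580480, 0, 26244, 0, 21504, 0, 0, 0, 0, 36, 0, 0, 0, 972, 0, 0, 0, 0, 12, 0, 0, 0, 0, 12, 0,
    0, 0, 0, 0, 0, 0, 0, 0, 0, 0, 0, 6, 0]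

/-- the seeds -/
def seeds : List (List ℤ) := [chi, sd1, sd2, sd3, sd4]

/-- the primes and the sections -/
def PL : List (ℕ × ℕ × List ℕ) := [(2, 15, [0, 2, 3, 4, 7, 11, 14, 16, 23]), (3, 10, [0, 1, 5, 6, 7, 11, 12, 13, 17, 21]), (5, 3, [0, 1, 4, 6, 8]),
    (7, 2, [0, 1, 2, 5]), (13, 1, [0, 2]), (19, 1, [0]), (31, 1, [0])]

/-- the certificates -/
def CL : List (ℕ × ℕ × List Cert) :=
  [(2, 15, [⟨0, [.one, .gen 0 1 0, .mul 0 0, .gen 2 1 0, .gen 0 1 1, .lin [(15992, 3), (22577, 2)], .lin [(1, 4)], .lin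
     [(14043, 6), (20285, 3), (9362, 2)], .lin [(1, 3)], .lin [(1, 8)]], [(5, 1), (4, 4), (3, 16), (2, 8), (0, 128)]⟩,
    ⟨2, [.one, .gen 0 1 0, .mul 0 0, .gen 0 3 0, .lin [(6156, 2), (4104, 1), (29177, 0)], .lin [(24966, 3), (20285,
     2)], .lin [(1, 4)], .lin [(1, 6)]], [(3, 1), (2, 2), (0, 8), (1, 64)]⟩,
    ⟨3, [.one, .gen 0 1 0, .mul 0 0, .lin [(20485, 2), (16388, 1), (28671, 0)], .lin [(10923, 3), (10923, 2)], .lin
     [(1, 4)]], [(2, 1), (0, 2), (1, 8)]⟩,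
    ⟨4, [.one, .gen 0 1 0, .gen 1 1 0, .mul 0 0, .lin [(28968, 2), (31374, 1), (25273, 0)], .lin [(24575, 3)], .lin
     [(2, 5), (16383, 3)], .lin [(1, 6)]], [(2, 1), (3, 2), (0, 4), (1, 16)]⟩,
    ⟨7, [.one, .gen 0 1 0, .mul 0 0, .lin [(2, 1), (1, 0)], .lin [(16383, 2)], .lin [(1, 4)]], [(2, 1), (0, 2), (1,
     8)]⟩,
    ⟨11, [.one, .gen 0 1 0, .mul 0 0, .lin [(3, 2), (32764, 1), (1, 0)], .lin [(32767, 3), (1, 2)], .lin [(1, 4)]],
     [(2, 1), (0, 2), (1, 8)]⟩,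
    ⟨14, [.one, .gen 0 1 0, .mul 0 0, .gen 4 1 0, .lin [(20485, 3), (16388, 2), (28671, 1)], .lin [(10923, 4), (10923,
     3)], .lin [(10923, 2)], .lin [(1, 6)]], [(2, 1), (3, 2), (0, 2), (1, 8)]⟩,
    ⟨16, [.one, .gen 1 1 0, .lin [(2, 1), (29491, 0)], .lin [(1, 2)]], [(0, 1), (1, 2)]⟩,
    ⟨23, [.one, .gen 0 1 0, .lin [(16385, 1), (16383, 0)], .lin [(1, 2)]], [(0, 1), (1, 2)]⟩]),
   (3, 10, [⟨1, [.one, .gen 0 1 0, .mul 0 0, .mul 1 0, .gen 1 1 0, .gen 3 1 0, .lin [(17092, 5), (6828, 4), (3423, 3), (2141,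
     2), (36909, 0)], .lin [(45824, 6), (31139, 5), (33638, 4), (54753, 1)], .lin [(29517, 7), (44283, 6), (44287, 3),
     (20914, 2)], .lin [(3028, 8), (1514, 7), (38609, 4)], .lin [(19684, 9), (39365, 8)], .lin [(1, 10)]], [(4, 1), (5,
     3), (1, 3), (2, 3), (0, 9), (3, 81)]⟩,
    ⟨5, [.one, .gen 0 1 0, .mul 0 0, .gen 3 1 0, .gen 4 1 0, .lin [(39859, 4), (10097, 3), (58798, 2), (51669, 1),
     (44289, 0)], .lin [(5971, 4), (26539, 3), (57335, 2), (55621, 1)], .lin [(29525, 2)], .lin [(44287, 4)], .lin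
     [(44287, 6)]], [(1, 1), (3, 3), (4, 3), (0, 3), (2, 27)]⟩,
    ⟨6, [.one, .gen 1 1 0, .lin [(57538, 1), (757, 0)], .lin [(1, 2)]], [(0, 1), (1, 3)]⟩,
    ⟨7, [.one, .gen 0 1 0, .lin [(2, 1), (1, 0)], .lin [(1, 2)]], [(0, 1), (1, 3)]⟩,
    ⟨11, [.one, .gen 0 1 0, .lin [(3, 1), (39365, 0)], .lin [(1, 2)]], [(0, 1), (1, 3)]⟩,
    ⟨12, [.one, .gen 2 1 0, .lin [(3, 1), (44734, 0)], .lin [(1, 2)]], [(0, 1), (1, 3)]⟩,
    ⟨13, [.one, .gen 1 2 0, .lin [(57538, 1), (757, 0)], .lin [(1, 2)]], [(0, 1), (1, 3)]⟩,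
    ⟨17, [.one, .gen 0 1 0, .lin [(39368, 1), (39365, 0)], .lin [(1, 2)]], [(0, 1), (1, 3)]⟩,
    ⟨21, [.one, .gen 2 1 0, .lin [(3, 1), (39365, 0)], .lin [(1, 2)]], [(0, 1), (1, 3)]⟩]),
   (5, 3, [⟨0, [.one, .lin [(1, 0)]], [(0, 1)]⟩,
    ⟨1, [.one, .gen 0 1 0, .lin [(4, 1), (63, 0)], .lin [(1, 2)]], [(0, 1), (1, 5)]⟩,
    ⟨4, [.one, .gen 0 1 0, .lin [(4, 1), (1, 0)], .lin [(1, 2)]], [(0, 1), (1, 5)]⟩,
    ⟨6, [.one, .gen 1 1 0, .lin [(5, 1), (14, 0)], .lin [(1, 2)]], [(0, 1), (1, 5)]⟩,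
    ⟨8, [.one, .gen 0 1 0, .lin [(104, 1), (99, 0)], .lin [(1, 2)]], [(0, 1), (1, 5)]⟩]),
   (7, 2, [⟨0, [.one, .lin [(1, 0)]], [(0, 1)]⟩,
    ⟨1, [.one, .gen 0 1 0, .lin [(8, 1), (1, 0)], .lin [(1, 2)]], [(0, 1), (1, 7)]⟩,
    ⟨2, [.one, .gen 0 1 0, .lin [(7, 1), (10, 0)], .lin [(1, 2)]], [(0, 1), (1, 7)]⟩,
    ⟨5, [.one, .gen 0 1 0, .lin [(15, 1), (41, 0)], .lin [(1, 2)]], [(0, 1), (1, 7)]⟩]),
   (13, 1, [⟨0, [.one, .lin [(1, 0)]], [(0, 1)]⟩,
    ⟨2, [.one, .lin [(1, 0)]], [(0, 1)]⟩]),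
   (19, 1, [⟨0, [.one, .lin [(1, 0)]], [(0, 1)]⟩]),
   (31, 1, [⟨0, [.one, .lin [(1, 0)]], [(0, 1)]⟩])]

/-- first step in the section of the identity for the prime three -/
def ce1 : Cert := ⟨0, [.one, .gen 0 1 0, .mul 0 0, .mul 1 0, .mul 2 0, .gen 1 1 0, .mul 4 0, .gen 2 1 0, .gen 0 1 1, .mul 7 0, .lin
    [(57148, 9), (39637, 8), (45711, 7), (50859, 6), (50571, 5), (36776, 4), (40661, 3), (249, 2)], .lin [(28855, 10),
    (27202, 9), (5717, 8), (8442, 7), (268, 5), (45390, 3), (58245, 2)], .lin [(54311, 11), (14325, 10), (50082, 9),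
    (31019, 8), (5905, 4)], .lin [(6576, 12), (18595, 11), (18583, 10), (4376, 4), (56861, 3)], .lin [(59048, 13),
    (29524, 12), (29525, 11)], .lin [(19685, 14), (19684, 13), (1, 6)], .lin [(39368, 15), (39365, 14)], .lin [(1,
    16)]], [(7, 1), (8, 3), (6, 3), (4, 9), (5, 27), (1, 81), (3, 81), (0, 243)]⟩

/-- second step -/
def ce2 : Cert := ⟨0, [.one, .gen 0 1 0, .mul 0 0, .mul 1 0, .gen 2 1 0, .gen 5 1 0, .mul 4 0, .mul 5 0, .mul 2 2, .gen 0 1 1, .lin
    [(43482, 9), (48995, 8), (2827, 7), (10427, 6), (7734, 5), (18814, 4), (37832, 3), (5905, 2)], .lin [(53809, 10),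
    (58998, 9), (15759, 8), (7886, 7), (53680, 6), (1342, 5), (57707, 2)], .lin [(39385, 11), (4916, 10), (54133, 9),
    (49217, 6), (9832, 5), (49217, 2)], .lin [(13120, 12), (26244, 11), (42647, 10), (59048, 7), (29525, 6)], .lin
    [(59048, 13), (29524, 12), (29525, 11)], .lin [(1, 14), (1, 9)], .lin [(39368, 15), (39365, 14)], .lin [(1, 16)]],
    [(7, 1), (8, 3), (6, 3), (4, 9), (5, 27), (1, 27), (3, 81), (0, 243)]⟩

/-- third step -/
def ce3 : Cert := ⟨0, [.one, .gen 0 1 0, .mul 0 0, .mul 1 0, .mul 2 0, .gen 5 1 0, .mul 4 0, .mul 1 1, .gen 6 1 0, .gen 0 1 1, .lin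
    [(46352, 9), (35496, 8), (30135, 7), (9149, 6), (15330, 5), (17454, 4), (12264, 3), (17067, 2), (46161, 1)], .lin
    [(44287, 10), (33215, 9), (25834, 8), (51668, 5), (7381, 4), (18149, 2), (51668, 1)], .lin [(18169, 3)], .lin
    [(13120, 12), (26244, 11), (42647, 10), (59048, 7), (29525, 6)], .lin [(59048, 13), (29524, 12), (29525, 11)],
    .lin [(1, 14), (1, 9)], .lin [(39368, 15), (39365, 14)], .lin [(1, 16)]], [(7, 1), (8, 3), (6, 3), (4, 9), (5,
    27), (1, 27), (3, 27), (0, 243)]⟩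

/-- signs and rows of the first step -/
def sg1 : List (ℤ × ℕ) := [(1, 5), (-1, 6), (-1, 7), (-1, 8), (1, 13), (-1, 17), (1, 19), (1, 25)]

/-- signs and rows of the second step -/
def sg2 : List (ℤ × ℕ) := [(1, 15), (-1, 16), (1, 22), (-1, 28), (1, 30), (1, 31), (1, 33), (-1, 34), (1, 36), (-1, 37), (-1, 38)]

/-- all rows -/
def rows : List (List ℤ) := rowA ++ rowB

theorem okPL : okPrimes D PL = true := by decide +kernel

theorem okCL : ∀ y ∈ CL, chkP D y.1 y.2.1 (y.1 ^ y.2.1) seeds y.2.2 rows = true := by decide +kernel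

theorem allCL : allC PL CL 3 0 = true := by decide +kernel

theorem ok1 : chkP D 3 10 (3 ^ 10) seeds [ce1] ((sqT 3 5 sg1).map (comb rows)) = true := by decide +kernel

theorem ok2 : chkP D 3 10 (3 ^ 10) (seeds ++ [ntd rows [] 5]) [ce2] ((sqT 3 15 sg2).map (comb rows)) = true := by
  decide +kernel

theorem ok3 : chkP D 3 10 (3 ^ 10) (seeds ++ [ntd rows [] 5] ++ [ntd rows [] 15]) [ce3] rows = true := by
  decide +kernel

theorem okR : Sm2.okRows D rowA rowB = true := Pk.rows_of (by decide +kernel)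

section

variable {G : Type} [Group G] [Finite G] {T : TD G D}

theorem virt_seeds (hm : T.Mass) (hr : ON.Rat T) (hc : Virt T (nth chi)) : ∀ sd ∈ seeds, Virt T (nth sd) := by
  have h1 : Virt T (nth one) := (Virt.const 1).congr (by decide +kernel)
  have hI : Inh T := inh_of_mass hm (by decide +kernel)
  obtain ⟨x, hx⟩ := hI 36 (by decide)
  obtain ⟨y, hy⟩ := hI 37 (by decide)
  simp only [seeds, List.forall_mem_cons, List.not_mem_nil, false_imp_iff, implies_true, and_true]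
  exact ⟨hc, ON.virt_coad hm hr h1 (k := 2) (by decide +kernel), ON.virt_coad hm hr h1 (k := 3) (by decide +kernel),
    ON.virt_cyc hm hr x (by rw [hx]; decide +kernel), ON.virt_cyc hm hr y (by rw [hy]; decide +kernel)⟩

/-- **the table** -/
theorem tab_of (hm : T.Mass) (hr : ON.Rat T) (hc : Virt T (nth chi)) : Inh T ∧ Tab T (Sm2.mkRows rowA rowB) := by
  have h0 := virt_seeds hm hr hc
  have h1 : ∀ l s, hasC CL l s = true → ∀ r ∈ rows, Eng.Good T l s (nth r) := fun l s h =>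
    good_of_certs hm.1 h0 okCL h
  have key : ∀ {sd : List (List ℤ)} {c : Cert} {L : List (List (ℤ × ℕ))}, c.s = 0 → (∀ v ∈ sd, Virt T (nth v)) →
      chkP D 3 10 (3 ^ 10) sd [c] (L.map (comb rows)) = true → ∀ x ∈ L, Virt T (nth (comb rows x)) :=
    fun {sd c L} hc hs h x hx => virt_of_certs' hm.1 okPL allCL (fun l s h => Eng.Good.comb (h1 l s h) x)
      (good_of_chkP hm.1 h hs 0 (by simp [hc]) _ (List.mem_map_of_mem hx))
  have app : ∀ {sd : List (List ℤ)} {w : List ℤ}, (∀ v ∈ sd, Virt T (nth v)) → Virt T (nth w) →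
      ∀ v ∈ sd ++ [w], Virt T (nth v) := fun hs hw v hv =>
    (List.mem_append.1 hv).elim (hs v) fun h => List.mem_singleton.1 h ▸ hw
  have h2 := app h0 (virt_of_bes hm rfl (a := 8) (by decide) (by decide) (by decide) (by decide) (by decide +kernel)
    (key rfl h0 ok1))
  have h3 := app h2 (virt_of_bes hm rfl (a := 4) (by decide) (by decide) (by decide) (by decide) (by decide +kernel)
    (key rfl h2 ok2))
  have h4 : ∀ i < 39, D.ord i = 1 → i = 0 := by decide +kernel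
  exact ⟨inh_of_mass hm (by decide +kernel), Sm2.tab_of_rows hm (h4 _ (T.lt 1) ((T.ord 1).symm.trans orderOf_one))
    (fun r hr => virt_of_certs' hm.1 okPL allCL (fun l s h => h1 l s h r hr)
      (good_of_chkP hm.1 ok3 h3 0 (by decide) r hr)) okR⟩

theorem van_of (hN : Nat.card G = D.N) (h : Inh T ∧ Tab T (Sm2.mkRows rowA rowB)) : VAN.Van3 G :=
  h.2.van3 h.1 hN [(2, 15), (3, 10), (5, 3), (7, 2), (13, 1), (19, 1), (31, 1)] (by decide +kernel) 27 35 38
    (by decide +kernel)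

theorem odd_of (h : Inh T ∧ Tab T (Sm2.mkRows rowA rowB)) : OddRat G :=
  h.2.oddRat h.1 [23, 35, 38] (by decide +kernel) (by decide +kernel)

theorem sig_of (h : Inh T ∧ Tab T (Sm2.mkRows rowA rowB)) (h1 : SigConj T 34) (h2 : SigConj T 38) : OddSig G :=
  h.2.oddSig h.1 [(35, 0, 31, 8)] (by decide +kernel) [34, 38] (by simp [h1, h2]) (by decide +kernel)

omit [Finite G] in
theorem deg_of (h : Tab T (Sm2.mkRows rowA rowB)) : DegList G [1, 248, 4123, 30628, 30875, 61256, 147250, 957125,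
    2450240, 2572752, 3376737, 4123000, 4881384, 4936750, 10822875, 11577384, 16539120, 18154500, 28861000, 30507008,
    40199250, 44330496, 51684750, 72925515, 76271625, 77376000, 81153009, 91171899, 111321000, 190373976, 27000, 27000,
    85995, 85995, 767637, 767637, 779247, 779247, 1707264, 1707264, 4096000, 4096000, 6669000, 6669000, 6696000,
    6696000, 21326760, 21326760] := by
  refine Eq.subst (motive := DegList G) ?_ h.degList
  decide +kernel

end

end Cfsg.Agent.TAB.Th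

private theorem dce_8eb56988efa3 : _root_.True := by
  try have : _root_.True := by simp only [_root_.Cfsg.Agent.TAB.Th.seeds.eq_1]
  exact _root_.True.intro
end

-- part: TAB/J4/HB
section
set_option linter.all false
open scoped Cfsg.Agent.FastGrp

/-!
# The subgroup `2^11:M24` of `J4`: classes of `M24`, subgroups, sums (helper55, TAB)
-/

set_option autoImplicit false
set_option maxHeartbeats 400000

namespace Cfsg.Agent.TAB.J4

open Cfsg Subgroup Cfsg.Agent.J4.Pres Cfsg.Agent.J4.Beta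
open Cfsg.Agent.H860 Cfsg.Agent.H860.PairGroup Cfsg.Agent.H860.Act
open Cfsg.Agent.SporadicStructure.M24El Cfsg.Agent.SporadicA.GolayPerm
open Cfsg.Agent.H858.Data (V V_xor V_zero V_inv V_mem mem_EJ)
open Cfsg.Agent.H334.Ore Cfsg.Agent.H447.CTab

/-! ### the classes of `M24` -/

/-- the representatives -/
def mP (i : ℕ) : ℕ := [984818244535754528103549039458486304, 817407390404986744204366159001526304,
  544731467543530313478419418836575493, 693793083484272819170454468079749312,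
  917150455939460404939281612745760357, 192613887460257670335523932379526859,
  766078480764522267812074796576527779, 630337107645975966183283128165411569,
  970531382982415564833320819807602177, 271787644222412330678682982691407336,
  441366995423741609312549231512542638, 352520454927167266887859745207964736,
  639394897622536056909024109674466560, 351844052827762829049910944796316010,
  59958983596740834366188217924985573, 20384579791191895985424879750235369,
  145797950094761687161608633680418285, 54061143792467787905420018783885681,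
  296418681862333505317491920136189480, 692782671643430358498584137066202775,
  311800539162905419356353909696843884, 682877364871969722836355392054863185,
  152660159869748298187992742290470223, 801752737117678585333135729932738209,
  798750777926542184211457386217854674, 547179429011475480724681305400648085].getD i idP

/-- the centralizers -/
def mN (i : ℕ) : ℕ := [244823040, 21504, 7680, 1080, 504, 384, 128, 96, 60, 24, 24, 42, 42, 16, 20, 11, 12, 12, 14, 14, 15, 15, 21, 21, 23, 23].getD i 0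

theorem ok_mP (i : ℕ) : ok (mP i) = true := ok_getD (by decide +kernel) i

theorem mD : ∀ i : Fin M24Data.D.length, (M24Data.D.get i).c = mP (i + 1) ∧ (M24Data.D.get i).n = mN (i + 1) := by
  decide +kernel

theorem card_M24 : Nat.card M24 = 244823040 := H858.FixJ4.card_M24

theorem el_ne {P : ℕ} {k : ℕ} (hP : ok P = true) (h : eqc (Tab.pw (0, P) k) (0, idP) = false) : el P ^ k ≠ 1 :=
  fun h1 => Tab.pw_ne_one hyp hQ (a := (0, P)) hP h (by
    show E (0, P) ^ k = 1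
    rw [E_zero, ← map_pow, h1, map_one])

/-- the classes -/
noncomputable def TM : ClassTab M24 26 := ClassTab.ofBound (fun i => el (mP i)) (fun i => mN i) card_M24 (by
    have h0 : ∀ i < 25, ¬ IsConj (el (mP 0)) (el (mP (i + 1))) := fun i hi h => by
      have h1 : ∀ i < 25, eqc (Tab.pw (0, mP (i + 1)) 1) (0, idP) = false := by decide +kernel
      have h2 : el (mP 0) = 1 := el_idP
      rw [h2, isConj_one_right] at h
      exact el_ne (ok_mP _) (h1 i hi) ((pow_one _).trans h)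
    have h1 : ∀ i j : Fin M24Data.D.length, i < j → ¬ IsConj (el (mP (i + 1))) (el (mP (j + 1))) := fun i j hij =>
      Mat.not_isConj M24R.hF ((mD i).1 ▸ ok_mP _) ((mD j).1 ▸ ok_mP _) (M24Data.hP i j hij)
        (by rw [(mD i).1]; rfl) (by rw [(mD j).1]; rfl)
    rintro ⟨_ | i, hi⟩ ⟨_ | j, hj⟩ h
    · rfl
    · exact absurd h (h0 j (by omega))
    · exact absurd h.symm (h0 i (by omega))
    · rcases lt_trichotomy i j with h2 | rfl | h2
      · exact absurd h (h1 ⟨i, by change i < 25; omega⟩ ⟨j, by change j < 25; omega⟩ h2)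
      · rfl
      · exact absurd h.symm (h1 ⟨j, by change j < 25; omega⟩ ⟨i, by change i < 25; omega⟩ h2)) (by
    rintro ⟨_ | i, hi⟩
    · exact (card_le_card_group _).trans card_M24.le
    · have h := mD ⟨i, by change i < 25; omega⟩
      exact h.2 ▸ Mat.card_cent_le M24R.id_injective M24R.hF (M24Data.hC _ (List.get_mem _ _)) (by rw [h.1]; rfl))
  (by decide +kernel) (by decide +kernel)

theorem cc_mP {i : ℕ} (hi : i < 26) : Nat.card (centralizer ({el (mP i)} : Set M24)) = mN i := TM.card ⟨i, hi⟩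

/-! ### subgroups -/

theorem act' (c : M24) (v : ℕ) : ∃ w < 2048, phi c * V v * (phi c)⁻¹ = V w :=
  mem_EJ.1 ((mem_normalizer_iff.1 (H858.VK.phi_norm ⟨c, rfl⟩) _).1 (V_mem v))

theorem xor_lt {v w : ℕ} (hv : v < 2048) (hw : w < 2048) : v ^^^ w < 2048 := Nat.xor_lt_two_pow (n := 11) hv hw

/-- the preimage of a subgroup of `M24` -/
def KS (C : Subgroup M24) : Subgroup Spor.J4 where
  carrier := {g | ∃ v < 2048, ∃ c ∈ C, g = V v * phi c}
  one_mem' := ⟨0, by norm_num, 1, C.one_mem, by rw [V_zero, map_one, mul_one]⟩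
  mul_mem' := by
    rintro _ _ ⟨v, hv, c, hc, rfl⟩ ⟨w, -, d, hd, rfl⟩
    obtain ⟨u, hu, h⟩ := act' c w
    exact ⟨v ^^^ u, xor_lt hv hu, c * d, C.mul_mem hc hd, by rw [V_xor, ← h, map_mul]; group⟩
  inv_mem' := by
    rintro _ ⟨v, -, c, hc, rfl⟩
    obtain ⟨u, hu, h⟩ := act' c⁻¹ v
    exact ⟨u, hu, c⁻¹, C.inv_mem hc, by rw [← h, mul_inv_rev, V_inv, map_inv]; group⟩

/-- the elements -/
noncomputable def eK (C : Subgroup M24) : Fin 2048 × C ≃ KS C :=
  Equiv.ofBijective (fun p => ⟨V p.1 * phi p.2, p.1, p.1.2, p.2, p.2.2, rfl⟩) ⟨fun a b h => by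
    obtain ⟨h1, h2⟩ := E_inj a.1.2 b.1.2 (congrArg Subtype.val h)
    exact Prod.ext (Fin.ext h1) (Subtype.ext h2), by
    rintro ⟨_, v, hv, c, hc, rfl⟩
    exact ⟨(⟨v, hv⟩, ⟨c, hc⟩), rfl⟩⟩

theorem card_KS (C : Subgroup M24) : Nat.card (KS C) = 2048 * Nat.card C := by
  rw [← Nat.card_congr (eK C), Nat.card_prod, Nat.card_fin]

theorem pi_aux (g : KS ⊤) {v : ℕ} (hv : v < 2048) {c : M24} (h : (g : Spor.J4) = V v * phi c) :
    (((eK ⊤).symm g).2 : M24) = c := by
  have h1 : g = eK ⊤ (⟨v, hv⟩, ⟨c, trivial⟩) := Subtype.ext h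
  rw [h1, Equiv.symm_apply_apply]

/-- the map onto `M24` -/
noncomputable def piH : KS ⊤ →* M24 := MonoidHom.mk' (fun g => ((eK ⊤).symm g).2) (by
  rintro ⟨_, v, hv, c, hc, rfl⟩ ⟨_, w, hw, d, hd, rfl⟩
  obtain ⟨u, hu, h⟩ := act' c w
  rw [pi_aux ⟨_, v, hv, c, hc, rfl⟩ hv rfl, pi_aux ⟨_, w, hw, d, hd, rfl⟩ hw rfl]
  exact pi_aux _ (xor_lt hv hu) (by
    show V v * phi c * (V w * phi d) = _
    rw [V_xor, ← h, map_mul]; group))

theorem piH_eK (p : Fin 2048 × (⊤ : Subgroup M24)) : piH (eK ⊤ p) = p.2 := pi_aux _ p.1.2 rfl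

open Classical in
/-- **sums over the subgroup** -/
theorem sum_H [Fintype (KS ⊤)] {f : Spor.J4 → ℂ} (hf : ∀ g c, f (c * g * c⁻¹) = f g) {χ : M24 → ℂ}
    (hχ : ∀ g c, χ (c * g * c⁻¹) = χ g) : ∑ x : KS ⊤, f x * χ (piH x) =
      ∑ i : Fin 26, ((244823040 / mN i : ℕ) : ℂ) * (χ (el (mP i)) * ∑ v ∈ Finset.range 2048, f (E (v, mP i))) := by
  have := Fintype.ofFinite M24
  let F : M24 → ℂ := fun c => ∑ x : KS ⊤, if piH x = c then f x else 0
  have h1 : ∑ x : KS ⊤, f x * χ (piH x) = ∑ c : M24, χ c * F c := by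
    simp only [F, Finset.mul_sum]
    rw [Finset.sum_comm]
    refine Finset.sum_congr rfl fun x _ => ?_
    simp only [mul_ite, mul_zero, Finset.sum_ite_eq, Finset.mem_univ, if_true, mul_comm]
  have h2 : ∀ c d, F (d * c * d⁻¹) = F c := fun c d => by
    let k : KS ⊤ := eK ⊤ (0, ⟨d, trivial⟩)
    have h3 : piH k = d := piH_eK _
    refine (Fintype.sum_equiv (MulAut.conj k).toEquiv _ _ fun x => ?_).symm
    have h4 : (MulAut.conj k).toEquiv x = k * x * k⁻¹ := rfl
    rw [h4, map_mul, map_mul, map_inv, h3, coe_mul, coe_mul, coe_inv, hf]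
    simp only [mul_left_inj, mul_right_inj]
  have h3 : ∀ i, F (el (mP i)) = ∑ v ∈ Finset.range 2048, f (E (v, mP i)) := fun i => by
    rw [Finset.sum_range]
    refine ((eK ⊤).sum_comp _).symm.trans ?_
    rw [Fintype.sum_prod_type]
    refine Finset.sum_congr rfl fun v _ => ?_
    rw [Finset.sum_eq_single ⟨el (mP i), trivial⟩ (fun c _ hc => if_neg fun h => hc (Subtype.ext
      ((piH_eK (v, c)).symm.trans h))) (fun h => absurd (Finset.mem_univ _) h), if_pos (piH_eK _)]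
    rfl
  rw [h1, TM.sum_eq fun g => ?_, card_M24]
  · exact Finset.sum_congr rfl fun i _ => congrArg _ (congrArg _ (h3 i))
  · obtain ⟨c, hc⟩ := isConj_iff.1 (TM.isConj_cl g)
    conv_lhs => rw [← hc, hχ, h2]

theorem gen_fx : IsGeneralizedCharacter (KS ⊤) fun x => (Mat.fx (piH x) : ℂ) := by
  have h := H651.isGeneralizedCharacter_comp_hom piH (Characters.Brauer.isGeneralizedCharacter_of_isCharacter
    (S0157.isCharacter_fixedBy (G := M24) GolayPt))
  convert h using 3 with x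
  rw [Mat.fx, Nat.card_eq_fintype_card]
  exact (Fintype.card_of_subtype _ fun p => by simp [MulAction.mem_fixedBy, coe_smul_pt]).symm

/-- **lower bounds of centralizers** -/
theorem low_H {i v q n b : ℕ} (hi : i < 26) (p : ℕ → Bool)
    (hp : ∀ w < 2048, IsConj (E (v, mP i)) (E (w, mP i)) → p w = true) (hn : (List.range 2048).countP p ≤ n)
    (hq : q ∣ cc (E (v, mP i))) (hc : Nat.Coprime q (2048 * mN i)) (hb : b * n ≤ q * (2048 * mN i)) :
    b ≤ cc (E (v, mP i)) := by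
  classical
  refine le_of_orbit (KS (centralizer {el (mP i)})) _ (((List.range 2048).filter p).map
    fun w => E (w, mP i)).toFinset ?_ (by rw [card_KS, cc_mP hi]) ((List.toFinset_card_le _).trans
      ((List.length_map _).trans_le (List.countP_eq_length_filter.symm.trans_le hn))) hq hc hb
  rintro _ ⟨e, he, c, hc, rfl⟩
  obtain ⟨u, hu, h1⟩ := act' c v
  have h2 := act (mP i) (ok_mP i) e
  have h3 : V e * phi c * E (v, mP i) * (V e * phi c)⁻¹ = E (e ^^^ (u ^^^ lin (AP (mP i)) e), mP i) := by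
    have h4 : phi c * phi (el (mP i)) = phi (el (mP i)) * phi c := by
      rw [← map_mul, ← map_mul, mem_centralizer_singleton_iff.1 hc]
    rw [E_def, E_def, V_xor, V_xor, ← h1, ← h2, mul_inv_rev, V_inv]
    calc _ = V e * (phi c * V v * (phi c)⁻¹) * (phi c * phi (el (mP i))) * (phi c)⁻¹ * V e := by group
      _ = _ := by rw [h4]; group
  have h4 := xor_lt he (xor_lt hu (lin_lt (AP_lt (mP i)) e))
  exact List.mem_toFinset.2 (List.mem_map.2 ⟨_, List.mem_filter.2 ⟨List.mem_range.2 h4,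
    hp _ h4 (isConj_iff.2 ⟨_, h3⟩)⟩, h3.symm⟩)

/-! ### powers -/

theorem lin_add : ∀ (n : ℕ) (F : ℕ → ℕ), (∀ a b, F (a ^^^ b) = F a ^^^ F b) → ∀ v < 2 ^ n,
    lin ((List.range n).map fun i => F (2 ^ i)) v = F v := by
  intro n
  induction n with
  | zero =>
    intro F hF v hv
    have h := hF 0 0
    rw [Nat.xor_self, Nat.xor_self] at h
    rw [show v = 0 by omega, h]
    rfl
  | succ n ih =>
    intro F hF v hv
    have h1 := ih (fun u => F (2 * u)) (fun a b => by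
      rw [← hF]
      congr 1
      have := Nat.shiftLeft_xor_distrib (a := a) (b := b) (i := 1)
      simpa [Nat.shiftLeft_eq, mul_comm] using this) (v / 2) (by rw [pow_succ] at hv; omega)
    rw [List.range_succ_eq_map, List.map_cons, List.map_map, lin_cons]
    have h2 : ((fun i => F (2 ^ i)) ∘ Nat.succ) = fun i => F (2 * 2 ^ i) := funext fun i => by
      simp only [Function.comp, pow_succ']
    rw [h2, h1]
    split_ifs with h
    · rw [← hF]
      congr 1
      rw [pow_zero, Nat.xor_comm, Nat.xor_one_of_even (even_two_mul _)]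
      omega
    · congr 1
      omega

theorem pw_add (P k : ℕ) : (∀ v, (Tab.pw (v, P) k).2 = (Tab.pw (0, P) k).2) ∧
    ∀ a b, (Tab.pw (a ^^^ b, P) k).1 = (Tab.pw (a, P) k).1 ^^^ (Tab.pw (b, P) k).1 := by
  induction k with
  | zero => exact ⟨fun _ => rfl, fun _ _ => (Nat.xor_self 0).symm⟩
  | succ k ih =>
    have h : ∀ v, Tab.pw (v, P) (k + 1) = ((Tab.pw (v, P) k).1 ^^^ lin (AP (Tab.pw (0, P) k).2) v,
        pcomp (Tab.pw (0, P) k).2 P) := fun v => by
      rw [← ih.1 v]; rfl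
    refine ⟨fun v => by rw [h, h], fun a b => ?_⟩
    simp only [h, ih.2, H858.Pent.lin_xor]
    ac_rfl

/-- `M` is the matrix of the `e`-th power, conjugated by `c` into the coset `j` -/
def powB (P e c j : ℕ) (M : List ℕ) : Bool :=
  (ok c && Nat.blt j 7) && (Nat.beq (pcomp c (Tab.pw (0, P) e).2) (pcomp (Two24Data.rp.getD j idP) c) &&
    decide (M = (List.range 11).map fun i => lin (AP c) (Tab.pw (2 ^ i, P) e).1))

theorem two_pw {P e c j : ℕ} {M : List ℕ} (hP : ok P = true) (h : powB P e c j M = true) {v : ℕ} (hv : v < 2048) :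
    IsConj (Q (Orb.tget (clT j) 4 (lin M v))) (E (v, P) ^ e) := by
  simp only [powB, Bool.and_eq_true, decide_eq_true_eq] at h
  obtain ⟨⟨h1, h2⟩, h3, rfl⟩ := h
  have h4 := lin_add 11 (fun v => lin (AP c) (Tab.pw (v, P) e).1) (fun a b => by
    show lin _ (Tab.pw (a ^^^ b, P) e).1 = _
    rw [(pw_add P e).2, H858.Pent.lin_xor]) v hv
  rw [h4, ← E_pw (a := (v, P)) hP]
  refine two_of (c := c) (j := j) ?_
  have h5 := ok_pw (a := (v, P)) hP e
  rw [← (pw_add P e).1 v] at h3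
  generalize Tab.pw (v, P) e = a at h3 h5
  simp only [twoB, h5, h1, h2, h3, Nat.beq_refl, Bool.and_self]

theorem el_pow {v P k : ℕ} (hP : ok P = true) (h : E (v, P) ^ k = 1) : el P ^ k = 1 := by
  rw [← E_pw (a := (v, P)) hP] at h
  have h1 : V (Tab.pw (v, P) k).1 * phi (el (Tab.pw (v, P) k).2) = V 0 * phi 1 := by
    rw [V_zero, map_one, mul_one]
    exact h
  have h2 := (E_inj (Tab.pw_lt k) (by norm_num) h1).2
  have h3 := (pw_add P k).2 0 0
  rw [Nat.xor_self, Nat.xor_self] at h3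
  have h4 : E (Tab.pw (0, P) k) = V (Tab.pw (0, P) k).1 * phi (el (Tab.pw (0, P) k).2) := rfl
  rw [h3, ← (pw_add P k).1 v, h2, V_zero, one_mul, E_pw (a := (0, P)) hP, E_zero, ← map_pow] at h4
  exact H858.VK.phi_injective h4

end Cfsg.Agent.TAB.J4

private theorem dce_53521fd9ed09 : _root_.True := by
  try have : _root_.True := by simp only [_root_.Cfsg.Agent.H334.Ore.Mat.fx.eq_1]
  try have : _root_.True := by simp only [_root_.Cfsg.Agent.TAB.J4.powB.eq_1]
  exact _root_.True.intro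
end

-- part: TAB/J4/HT
section
set_option linter.all false
open scoped Cfsg.Agent.FastGrp

/-!
# The elements of the subgroup `2^11:M24` of `J4`: orders, classes of the 2-parts, the classes 6A, 6B, 11B (helper55, TAB)
-/

set_option autoImplicit false
set_option maxHeartbeats 400000

namespace Cfsg.Agent.TAB.J4

open Cfsg Subgroup Cfsg.Agent.J4.Pres Cfsg.Agent.J4.Beta
open Cfsg.Agent.H860 Cfsg.Agent.H860.PairGroup Cfsg.Agent.H860.Act Cfsg.Agent.H860.Orb
open Cfsg.Agent.SporadicStructure.M24El Cfsg.Agent.SporadicA.GolayPerm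
open Cfsg.Agent.H858.Data (V V_xor V_zero V_inv V_sq V_comm V_inj)
open Cfsg.Agent.H858.VK (phi_injective)
open Cfsg.Agent.H334.Ore Cfsg.Agent.H447.CTab Cfsg.Agent.TAB.Eng
open Cfsg.Agent.H865.RhoTwo (fN up fN_ne fN_one fN_fx)

/-- the orders -/
def mO (i : ℕ) : ℕ := [1, 2, 2, 3, 3, 4, 4, 4, 5, 6, 6, 7, 7, 8, 10, 11, 12, 12, 14, 14, 15, 15, 21, 21, 23, 23].getD i 0
/-- the odd parts -/
def mE (i : ℕ) : ℕ := [1, 1, 1, 3, 3, 1, 1, 1, 5, 3, 3, 7, 7, 1, 5, 11, 3, 3, 7, 7, 15, 15, 21, 21, 23, 23].getD i 0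
/-- the cosets of the 2-parts -/
def mJ (i : ℕ) : ℕ := [0, 1, 2, 0, 0, 3, 4, 5, 0, 1, 2, 0, 0, 6, 2, 0, 3, 5, 1, 1, 0, 0, 0, 0, 0, 0].getD i 0
/-- the conjugating elements -/
def mC (i : ℕ) : ℕ := [984818244535754528103549039458486304, 687619784760159555900308462830356654,
  505414217554445037590377602004165056, 984818244535754528103549039458486304,
  984818244535754528103549039458486304, 101313305802688345234824841407136054,
  641722857638911986870403850396486848, 511974510130517195390814606305475136,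
  984818244535754528103549039458486304, 558261244066173653062527800691500736,
  422184937354321986847748913406270848, 984818244535754528103549039458486304,
  984818244535754528103549039458486304, 218708001084206012553515068563970400,
  756312206605751084189688211515487840, 984818244535754528103549039458486304,
  23707785620282757544055961032311073, 777077087326504084696347799918787040,
  521447216637935943287781880555145349, 723894594414594497844601321992267968,
  984818244535754528103549039458486304, 984818244535754528103549039458486304,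
  984818244535754528103549039458486304, 984818244535754528103549039458486304,
  984818244535754528103549039458486304, 984818244535754528103549039458486304].getD i idP
/-- the matrices -/
def mM (i : ℕ) : List ℕ := [[1, 2, 4, 8, 16, 32, 64, 128, 256, 512, 1024], [1336, 1931, 393, 1762, 490, 542, 574, 806, 1831, 954, 1952], [1813,
  1193, 560, 413, 1542, 109, 1511, 1556, 1836, 1524, 1125], [716, 434, 713, 894, 894, 716, 434, 516, 950, 205, 1483],
  [1886, 0, 1886, 1963, 861, 1886, 861, 1963, 1270, 0, 861], [208, 643, 306, 1205, 1814, 590, 206, 790, 139, 1854,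
  1957], [854, 869, 515, 760, 628, 1688, 1357, 1741, 1890, 100, 976], [556, 1141, 1105, 1586, 1100, 500, 1811, 1800,
  1243, 1764, 1064], [1862, 1165, 1165, 670, 971, 1555, 1862, 1496, 1555, 1555, 0], [1091, 875, 14, 1670, 978, 1920,
  1259, 352, 119, 369, 14], [1552, 176, 1537, 2037, 180, 1713, 1540, 187, 1861, 1860, 17], [1668, 0, 1668, 1668, 1547,
  143, 0, 1547, 143, 1547, 0], [737, 0, 0, 0, 737, 1227, 0, 1227, 1227, 0, 737], [1263, 2024, 1316, 1334, 1268, 919,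
  979, 445, 1388, 1798, 1535], [175, 335, 1723, 337, 161, 496, 325, 15, 1876, 1562, 170], [707, 707, 707, 707, 707, 707,
  0, 0, 0, 707, 707], [1259, 1671, 2020, 1590, 2000, 1569, 1909, 1092, 2035, 145, 917], [856, 484, 1490, 1991, 683, 650,
  357, 974, 555, 28, 455], [14, 121, 682, 866, 383, 185, 454, 940, 866, 733, 612], [383, 1502, 1310, 192, 262, 1449,
  1310, 1383, 192, 183, 206], [561, 561, 561, 0, 561, 561, 0, 561, 561, 0, 0], [1766, 1766, 1766, 1766, 0, 1766, 1766,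
  0, 1766, 1766, 0], [0, 0, 0, 0, 0, 0, 0, 0, 0, 0, 0], [0, 0, 0, 0, 0, 0, 0, 0, 0, 0, 0], [0, 0, 0, 0, 0, 0, 0, 0, 0,
  0, 0], [0, 0, 0, 0, 0, 0, 0, 0, 0, 0, 0]].getD i []
/-- the orders of the 2-elements -/
def oQ (i : ℕ) : ℕ := [1, 2, 2, 4, 4, 4, 8, 8, 8, 16].getD i 0

private noncomputable def pwS (P k : ℕ) : (ℕ → List ℕ → Bool) → Bool :=
  Nat.rec (fun κ => κ idP ((List.range 11).map fun _ => 0)) (fun _ ih κ => ih fun Q L => frcL (AP Q) fun A =>
    frc (pcomp Q P) fun Q' => frcL (List.zipWith (fun x i => Nat.xor x (lin A (2 ^ i))) L (List.range 11)) fun L' =>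
      κ Q' L') k

private theorem pwS_eq (P k : ℕ) (κ : ℕ → List ℕ → Bool) :
    pwS P k κ = κ (Tab.pw (0, P) k).2 ((List.range 11).map fun i => (Tab.pw (2 ^ i, P) k).1) := by
  induction k generalizing κ with
  | zero => rfl
  | succ k ih =>
    refine (ih _).trans ?_
    rw [frcL_eq, frc_eq, frcL_eq, List.zipWith_map_left, List.zipWith_self]
    refine congrArg (κ _) (List.map_congr_left fun i _ => ?_)
    rw [← (pw_add P k).1 (2 ^ i)]
    rfl

private noncomputable def powF (P e c j : ℕ) (M : List ℕ) : Bool :=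
  frc P fun P => frc c fun c => pwS P e fun Q L => (ok c && Nat.blt j 7) &&
    (Nat.beq (pcomp c Q) (pcomp (Two24Data.rp.getD j idP) c) && frcL (AP c) fun C => decide (M = L.map (lin C)))

private theorem powF_eq (P e c j : ℕ) (M : List ℕ) : powF P e c j M = powB P e c j M := by
  rw [powF, frc_eq, frc_eq, pwS_eq, frcL_eq, List.map_map]
  rfl

theorem pow_ok : ∀ i < 26, powB (mP i) (mE i) (mC i) (mJ i) (mM i) = true := by
  have h : ∀ i < 26, powF (mP i) (mE i) (mC i) (mJ i) (mM i) = true := by decide +kernel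
  intro i hi
  rw [← powF_eq]
  exact h i hi

theorem mM_lt : ∀ i < 26, mJ i < 7 ∧ mE i ∣ mO i ∧ ∀ a ∈ mM i, a < 2048 := by decide +kernel

private noncomputable def allN (f : ℕ → Bool) (n : ℕ) : Bool := Nat.rec true (fun v ih => cond (f v) ih false) n

private theorem allN_spec {f : ℕ → Bool} {n : ℕ} (h : allN f n = true) : ∀ v < n, f v = true := by
  induction n with
  | zero => intro v hv; omega
  | succ n ih =>
    have h1 : cond (f n) (allN f n) false = true := h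
    cases hb : f n with
    | false => rw [hb] at h1; cases h1
    | true =>
      rw [hb] at h1
      intro v hv
      rcases Nat.lt_succ_iff_lt_or_eq.1 hv with h2 | rfl
      · exact ih h1 v h2
      · exact hb

theorem clT_lt : ∀ j < 7, ∀ v < 2048, tget (clT j) 4 v < 10 := by
  have h : allN (fun j => frc (clT j) fun cl => allN (fun v => Nat.blt (tget cl 4 v) 10) 2048) 7 = true := by
    decide +kernel
  intro j hj v hv
  have h1 := allN_spec h j hj
  rw [frc_eq] at h1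
  exact Nat.blt_eq.mp (allN_spec h1 v hv)

private noncomputable def tsum (g : ℕ → ℕ) (M : List ℕ) : ℕ → ℕ :=
  List.rec g (fun a _ ih w => Nat.add (ih w) (frc (Nat.xor a w) ih)) M

private theorem sum_two (f : ℕ → ℕ) (n : ℕ) :
    ∑ v ∈ Finset.range (n * 2), f v = ∑ v ∈ Finset.range n, f (2 * v) + ∑ v ∈ Finset.range n, f (2 * v + 1) := by
  induction n with
  | zero => rfl
  | succ n ih =>
    rw [Nat.succ_mul, Finset.sum_range_succ, Finset.sum_range_succ, ih, Finset.sum_range_succ, Finset.sum_range_succ,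
      Nat.mul_comm n 2]
    omega

private theorem tsum_eq (g : ℕ → ℕ) (M : List ℕ) (w : ℕ) :
    tsum g M w = ∑ v ∈ Finset.range (2 ^ M.length), g (lin M v ^^^ w) := by
  induction M generalizing w with
  | nil =>
    rw [List.length_nil, pow_zero, Finset.sum_range_one]
    exact congrArg g (Nat.zero_xor w).symm
  | cons a M ih =>
    have h0 : tsum g (a :: M) w = tsum g M w + tsum g M (a ^^^ w) := congrArg (tsum g M w + ·) (frc_eq _ _)
    rw [h0, ih, ih, List.length_cons, pow_succ, sum_two]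
    congr 1
    · refine Finset.sum_congr rfl fun v _ => ?_
      rw [lin_cons, if_neg (by omega), Nat.mul_div_cancel_left v (by decide)]
    · refine Finset.sum_congr rfl fun v _ => ?_
      rw [lin_cons, if_pos (by omega), show (2 * v + 1) / 2 = v by omega,
        Nat.xor_comm a (lin M v), Nat.xor_assoc]

private theorem tsum_all {f : ℕ → Bool} {M : List ℕ} (hM : M.length = 11)
    (h : tsum (fun w => cond (f w) 0 1) M 0 = 0) {v : ℕ} (hv : v < 2048) : f (lin M v) = true := by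
  rw [tsum_eq, hM, Finset.sum_eq_zero_iff] at h
  have h1 := h v (Finset.mem_range.2 hv)
  rw [Nat.xor_zero] at h1
  cases hf : f (lin M v) with
  | false => rw [hf] at h1; cases h1
  | true => rfl

/-- the class of the 2-part -/
def c2 (i v : ℕ) : ℕ := tget (clT (mJ i)) 4 (lin (mM i) v)

theorem c2_lt {i : ℕ} (hi : i < 26) (v : ℕ) : c2 i v < 10 := clT_lt _ (mM_lt i hi).1 _ (lin_lt (mM_lt i hi).2.2 v)

theorem two_H {i v : ℕ} (hi : i < 26) (hv : v < 2048) : IsConj (Q (c2 i v)) (E (v, mP i) ^ mE i) :=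
  two_pw (ok_mP i) (pow_ok i hi) hv

theorem ord_m {i : ℕ} (hi : i < 26) : orderOf (el (mP i)) = mO i := by
  have h : ∀ i < 26, 0 < mO i ∧ eqc (Tab.pw (0, mP i) (mO i)) (0, idP) = true ∧
      ∀ m < mO i, 0 < m → eqc (Tab.pw (0, mP i) m) (0, idP) = false := by decide +kernel
  obtain ⟨h1, h2, h3⟩ := h i hi
  refine (orderOf_eq_iff h1).2 ⟨el_pow (v := 0) (ok_mP i) ?_, fun m h4 h5 => el_ne (ok_mP i) (h3 m h4 h5)⟩
  rw [← E_pw (a := (0, mP i)) (ok_mP i), eqc_eq h2]
  exact E_one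

theorem ord_H {i v : ℕ} (hi : i < 26) (hv : v < 2048) : orderOf (E (v, mP i)) = mE i * oQ (c2 i v) := by
  have h1 := ord_conj (two_H hi hv)
  have h2 : mE i ∣ orderOf (E (v, mP i)) := (mM_lt i hi).2.1.trans
    (ord_m hi ▸ orderOf_dvd_of_pow_eq_one (el_pow (ok_mP i) (pow_orderOf_eq_one (E (v, mP i)))))
  rw [ord_Q (c2_lt hi v), orderOf_pow, Nat.gcd_eq_right h2] at h1
  rw [oQ, h1, Nat.mul_div_cancel' h2]

theorem c2_conj {i v w : ℕ} (hi : i < 26) (hv : v < 2048) (hw : w < 2048) (h : IsConj (E (v, mP i)) (E (w, mP i))) :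
    c2 i v = c2 i w :=
  Q_inj (c2_lt hi v) (c2_lt hi w) ((two_H hi hv).trans ((isConj_pow h _).trans (two_H hi hw).symm))

/-! ### 6A and 6B -/

theorem link {a y u : Spor.J4} (ha : orderOf a = 3) (hy : orderOf y = 2) (hu : orderOf u = 5) (h1 : Commute y a)
    (h2 : Commute u a) (h3 : Commute y u) : IsConj (a * y) (rr * zz) := by
  obtain ⟨g, hg⟩ := isConj_iff.1 (conj3 ha)
  have k1 : Commute (g * y * g⁻¹) rr := hg ▸ h1.map (MulAut.conj g)
  have k2 : Commute (g * u * g⁻¹) rr := hg ▸ h2.map (MulAut.conj g)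
  have k3 : Commute (g * y * g⁻¹) (g * u * g⁻¹) := h3.map (MulAut.conj g)
  rw [← orderOf_conj' y g] at hy
  rw [← orderOf_conj' u g] at hu
  refine isConj_iff.2 ⟨g, ?_⟩
  rw [← conj_mul, hg]
  congr 1
  generalize g * y * g⁻¹ = y at hy k1 k3
  generalize g * u * g⁻¹ = u at hu k2 k3
  by_contra hz
  have hy2 : y * y = 1 := by rw [← pow_two, ← hy, pow_orderOf_eq_one]
  have h4 : fN FF (up FF k1.eq) ≠ 1 := fN_ne FF k1.eq hy2 (fun h => by simp [h] at hy) hz
  have h5 : fN FF (up FF k2.eq) ≠ 1 := fun h => by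
    obtain ⟨i, j, h6⟩ := H856.ThreeRho.fM_ker FF _ (fN_one FF h)
    have h7 : u = zz ^ i * rr ^ j := congrArg Subtype.val h6
    have h8 : u ^ 6 = 1 := by
      rw [h7, (com_rz.symm.pow_pow i j).mul_pow, ← pow_mul, ← pow_mul, orderOf_dvd_iff_pow_eq_one.1 (by
        rw [ord_z]; omega), orderOf_dvd_iff_pow_eq_one.1 (by rw [ord_r]; omega), one_mul]
    have h9 := orderOf_dvd_of_pow_eq_one h8
    rw [hu] at h9
    omega
  have : Fact (Nat.Prime 5) := ⟨by norm_num⟩
  have h6 : orderOf (fN FF (up FF k1.eq)) = 2 := orderOf_eq_prime (by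
    rw [← map_pow, show up FF k1.eq ^ 2 = 1 from Subtype.ext (Subtype.ext ((pow_two y).trans hy2)), map_one]) h4
  have h7 : orderOf (fN FF (up FF k2.eq)) = 5 := orderOf_eq_prime (by
    rw [← map_pow, show up FF k2.eq ^ 5 = 1 from Subtype.ext (Subtype.ext (hu ▸ pow_orderOf_eq_one u)), map_one]) h5
  have h8 : Commute (up FF k1.eq) (up FF k2.eq) := Subtype.ext (Subtype.ext k3.eq)
  have h9 := (h8.map (fN FF)).orderOf_mul_eq_mul_orderOf_of_coprime (by rw [h6, h7]; norm_num)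
  rw [h6, h7, ← map_mul] at h9
  have h10 := (fN_fx FF (up FF k1.eq * up FF k2.eq)).2
  generalize fN FF (up FF k1.eq * up FF k2.eq) = m at h9 h10
  obtain ⟨i, hi⟩ := TM.cover m
  have h11 : mO i = 2 * 5 := (ord_m i.2).symm.trans ((ord_conj hi).trans h9)
  have h12 : ∀ i < 26, mO i = 2 * 5 → Mat.fc (mP i) 1 = 0 := by decide +kernel
  obtain ⟨c, hc⟩ := isConj_iff.1 hi
  have h13 : Mat.fx m = 0 := by
    rw [← hc, Mat.fx_conj, ← h12 i i.2 h11, ← Mat.fx_pow (ok_mP i), pow_one]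
    rfl
  rw [Mat.fx, Finset.card_eq_zero, Finset.filter_eq_empty_iff] at h13
  exact h13 (Finset.mem_univ _) h10

theorem com_V {e u P : ℕ} (hP : ok P = true) (he : e < 2048) : Commute (V e) (E (u, P)) ↔ lin (AP P) e = e := by
  have h1 : Commute (V e) (V u) := V_comm e u
  rw [E_def]
  refine ⟨fun h => V_inj (lin_lt (AP_lt P) e) he ?_, fun h => h1.mul_right ?_⟩
  · have h2 := h1.inv_right.mul_right h
    rw [inv_mul_cancel_left] at h2
    rw [← act P hP, ← h2.eq, mul_inv_cancel_right]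
  · have h2 := act P hP e
    rw [h] at h2
    exact (mul_inv_eq_iff_eq_mul.1 h2).symm

/-- the fixed vector -/
def v0 : ℕ := 434
/-- order 5 -/
def c5 : ℕ := 540951559347411586344894070543559714
/-- order 7 -/
def c7 : ℕ := 794964616888374667870522042417088128

theorem a6_v0 : IsConj (E (v0, mP 3)) (rr * zz) := by
  have h1 : Commute (V v0) (E (0, mP 3)) := (com_V (ok_mP 3) (by decide)).2 (by decide +kernel)
  have h2 : E (v0, mP 3) = E (0, mP 3) * V v0 := by rw [← h1.eq, E_zero, E_def]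
  rw [h2]
  refine link (u := E (0, c5)) ((ord_H (by norm_num) (by norm_num)).trans (by decide +kernel)) ?_
    (ord_of (ps := [5]) (by decide +kernel) (by norm_num) fun p hp h =>
      List.mem_singleton.2 ((Nat.prime_dvd_prime_iff_eq hp (by norm_num)).1 h)) h1 (com_of (by decide +kernel))
    ((com_V (by decide +kernel) (by decide)).2 (by decide +kernel))
  rw [← E_id]
  exact (ord_H (i := 0) (by norm_num) (by decide)).trans (by decide +kernel)

theorem chk3 : ∀ v < 2048, ∀ p ∈ [(3, c5), (4, c7)], v ^^^ (lin (AP (mP p.1)) v ^^^ lin (AP (mP p.1))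
    (lin (AP (mP p.1)) v)) = lin (mM p.1) v ∧ lin (AP (mP p.1)) (lin (mM p.1) v) = lin (mM p.1) v ∧
      (lin (mM p.1) v = 0 ∨ (p.1 = 3 ∧ lin (mM 3) v = v0) ∨ lin (AP p.2) (lin (mM p.1) v) ≠ lin (mM p.1) v) := by
  have h : ∀ p ∈ [(3, c5), (4, c7)], ((List.range 11).map fun i => 2 ^ i ^^^ (lin (AP (mP p.1)) (2 ^ i) ^^^
      lin (AP (mP p.1)) (lin (AP (mP p.1)) (2 ^ i)))) = mM p.1 ∧
      ((List.range 11).map fun i => lin (AP (mP p.1)) (lin (mM p.1) (2 ^ i))) = mM p.1 ∧ (mM p.1).length = 11 ∧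
      tsum (fun w => cond (Nat.beq w 0 || ((Nat.beq p.1 3 && Nat.beq w v0) || !(Nat.beq (lin (AP p.2) w) w))) 0 1)
        (mM p.1) 0 = 0 := by
    decide +kernel
  intro v hv p hp
  obtain ⟨h1, h2, h3, h5⟩ := h p hp
  have k1 := lin_add 11 (fun v => v ^^^ (lin (AP (mP p.1)) v ^^^ lin (AP (mP p.1)) (lin (AP (mP p.1)) v)))
    (fun a b => by simp only [H858.Pent.lin_xor]; ac_rfl) v hv
  have k2 := lin_add 11 (fun v => lin (AP (mP p.1)) (lin (mM p.1) v))
    (fun a b => by simp only [H858.Pent.lin_xor]) v hv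
  rw [h1] at k1
  rw [h2] at k2
  have h4 := tsum_all h3 h5 hv
  simp only [Bool.and_eq_true, Bool.or_eq_true, Nat.beq_eq, Bool.not_eq_true', ← Bool.not_eq_true] at h4
  refine ⟨k1.symm, k2.symm,
    h4.imp id (Or.imp (fun h => ⟨h.1, by rw [← h.1]; exact h.2⟩) fun h => by simpa using h)⟩

theorem a6_H {v : ℕ} (hv : v < 2048) (h : lin (mM 3) v = v0) : IsConj (E (v, mP 3)) (rr * zz) := by
  have h1 := conj_V v (lin (AP (mP 3)) v) (ok_mP 3)
  rw [(chk3 v hv (3, c5) (by simp)).1, h] at h1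
  exact h1.trans a6_v0

theorem na6_H {i v : ℕ} (hi : i < 26) (hv : v < 2048) (h1 : mE i = 3) (h2 : c2 i v = 1)
    (h3 : ¬ (i = 3 ∧ lin (mM 3) v = v0)) : ¬ A6 (E (v, mP i)) := fun h => by
  have h4 : ∀ i < 26, mE i = 3 → (∃ p ∈ [(3, c5), (4, c7)], p.1 = i ∧ mO i = 3 ∧ mJ i = 0 ∧
      cjB (0, p.2) (0, mP i) (0, mP i) = true) ∨ ∃ e ∈ [66, 492, 403, 1572], e < 2048 ∧
      lin (AP (Tab.pw (0, mP i) 2).2) e = e ∧ lin (AP (Tab.pw (0, mP i) 3).2) e ≠ e := by decide +kernel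
  rcases h4 i hi h1 with ⟨p, hp, rfl, h5, h6, h7⟩ | ⟨e, -, h5, h6, h7⟩
  · obtain ⟨k1, k2, k3⟩ := chk3 v hv p hp
    have k4 := conj_V v (lin (AP (mP p.1)) v) (ok_mP p.1)
    rw [k1] at k4
    have k5 := h.conj k4
    have k6 := lin_lt (mM_lt _ hi).2.2 v
    rw [c2, h6] at h2
    generalize lin (mM p.1) v = w at k2 k3 k5 k6 h2
    have k7 : Commute (V w) (E (0, mP p.1)) := (com_V (ok_mP _) k6).2 k2
    have k8 : E (w, mP p.1) = V w * E (0, mP p.1) := by rw [E_zero, E_def]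
    have k9 : E (0, mP p.1) ^ 3 = 1 := by
      rw [E_zero, ← map_pow, ← h5, ← ord_m hi, pow_orderOf_eq_one, map_one]
    have k10 := k5 (E (0, p.2)) (by
      rw [k8, k7.mul_pow, pow_two (V w), V_sq, one_mul]
      exact (com_of h7).pow_right 2)
    rw [k8, k7.mul_pow, k9, mul_one, pow_succ, pow_two, V_sq, one_mul] at k10
    simp only [cjB, Bool.and_eq_true] at h7
    rcases k3 with rfl | k3 | k3
    · exact absurd h2 (by decide +kernel)
    · exact h3 k3
    · exact k3 ((com_V h7.1.1 k6).1 k10.symm)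
  · have k : ∀ k, E (v, mP i) ^ k = E ((Tab.pw (v, mP i) k).1, (Tab.pw (0, mP i) k).2) := fun k => by
      rw [← (pw_add _ k).1 v, ← E_pw (a := (v, mP i)) (ok_mP i)]
    have k1 := h (V e) (by
      rw [k]
      exact (com_V (ok_pw (a := (0, mP i)) (ok_mP i) 2) h5).2 h6)
    rw [k] at k1
    exact h7 ((com_V (ok_pw (a := (0, mP i)) (ok_mP i) 3) h5).1 k1)

theorem na6_of {e b : ℕ × ℕ} (h0 : (ok b.2 && Nat.blt e.1 2048) = true) (h1 : cjB e (Tab.pw b 2) (Tab.pw b 2) = true)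
    (h2 : eqc (mc e (Tab.pw b 3)) (mc (Tab.pw b 3) e) = false) : ¬ A6 (E b) := fun h => by
  rw [Bool.and_eq_true, Nat.blt_eq] at h0
  have h3 := h (E e) (E_pw h0.1 2 ▸ com_of h1)
  simp only [cjB, Bool.and_eq_true] at h1
  rw [← E_pw h0.1] at h3
  exact E_ne' h1.1.1 (ok_pw h0.1 3) (ok_pw h0.1 3) h1.1.1 h0.2 (Tab.pw_lt 3) h2 h3.eq

/-! ### 11B -/

theorem cc_11 : cc (E (0, mP 15)) = 242 := by
  obtain ⟨i, hi⟩ := TM.cover H859.M24Eleven.f
  have h1 : mO i = 11 := (ord_m i.2).symm.trans ((ord_conj hi).trans H859.M24Eleven.orderOf_f)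
  have h2 : ∀ i < 26, mO i = 11 → i = 15 := by decide +kernel
  have h3 : IsConj (el (mP 15)) H859.M24Eleven.f := h2 i i.2 h1 ▸ hi
  obtain ⟨g, hg⟩ := H859.SylEleven.exists_x.choose_spec.2
  rw [E_zero, cc_conj (phi.map_isConj h3), cc_conj (isConj_iff.2 ⟨g, hg.symm⟩)]
  exact H859.SylEleven.card_centralizer_x_eq

theorem cc_H11 {v : ℕ} (hv : v < 2048) (h : c2 15 v = 0) : cc (E (v, mP 15)) = 242 := by
  have h1 : ((List.range 11).map fun i => 2 ^ i ^^^ (lin [156, 704, 224, 828, 95, 762, 1866, 1640, 1984, 445, 1289] (2 ^ i) ^^^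
      lin (AP (mP 15)) (lin [156, 704, 224, 828, 95, 762, 1866, 1640, 1984, 445, 1289] (2 ^ i)))) = mM 15 ∧ (mM 15).length = 11 ∧
      tsum (fun w => cond (Nat.beq w 0 || !(Nat.beq (tget (clT (mJ 15)) 4 w) 0)) 0 1) (mM 15) 0 = 0 := by
    decide +kernel
  have h2 := (lin_add 11 (fun v => v ^^^ (lin [156, 704, 224, 828, 95, 762, 1866, 1640, 1984, 445, 1289] v ^^^
    lin (AP (mP 15)) (lin [156, 704, 224, 828, 95, 762, 1866, 1640, 1984, 445, 1289] v)))
    (fun a b => by simp only [H858.Pent.lin_xor]; ac_rfl) v hv).symm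
  rw [h1.1] at h2
  have h3 := tsum_all h1.2.1 h1.2.2 hv
  simp only [Bool.or_eq_true, Nat.beq_eq, Bool.not_eq_true', ← Bool.not_eq_true] at h3
  have h4 := conj_V v (lin [156, 704, 224, 828, 95, 762, 1866, 1640, 1984, 445, 1289] v) (ok_mP 15)
  have h5 : lin (mM 15) v = 0 := h3.resolve_right fun h6 => by simpa using h6 h
  rw [cc_conj h4, ← cc_11, ← h5, ← h2]

/-! ### the types -/

/-- the types over the classes of the 2-parts -/
def mT (i : ℕ) : ℕ := [454072882592489536, 454072882592489536, 454072882592489536, 1143914259521774147, 1143914259521774147,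
  454072882592489536, 454072882592489536, 454072882592489536, 1152815951480685511, 1143914259521774147,
  1143914259521774147, 1152921471320683915, 1152921471320683915, 454072882592489536, 1152815951480685511,
  1152921504601200402, 1143914259521774147, 1143914259521774147, 1152921471320683915, 1152921471320683915,
  1152921504606845080, 1152921504606845080, 1152921504606845467, 1152921504606845467, 1152921504606846942,
  1152921504606846942].getD i 0

/-- the type -/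
def tyg (b : Bool) (cl T : ℕ) (M : List ℕ) (v : ℕ) : ℕ :=
  cond (b && Nat.beq (lin M v) v0) 8 (tget T 6 (tget cl 4 (lin M v)))

/-- the type -/
def tyf (i v : ℕ) : ℕ := tyg (Nat.beq i 3) (clT (mJ i)) (mT i) (mM i) v

theorem tyf_eq (i v : ℕ) : tyf i v = if i = 3 ∧ lin (mM 3) v = v0 then 8 else tget (mT i) 6 (c2 i v) := by
  rw [tyf, tyg, Bool.cond_eq_ite]
  refine if_congr ?_ rfl rfl
  rw [Bool.and_eq_true, Nat.beq_eq, Nat.beq_eq]
  exact and_congr_right fun h => by rw [h]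

theorem c2_v0 {v : ℕ} (h : lin (mM 3) v = v0) : c2 3 v = 1 := by
  rw [c2, h]
  decide +kernel

theorem tyf_conj {i v w : ℕ} (hi : i < 26) (hv : v < 2048) (hw : w < 2048) (h : IsConj (E (v, mP i)) (E (w, mP i))) :
    tyf i v = tyf i w := by
  have key : ∀ {v w : ℕ}, v < 2048 → w < 2048 → IsConj (E (v, mP i)) (E (w, mP i)) → (i = 3 ∧ lin (mM 3) v = v0) →
      (i = 3 ∧ lin (mM 3) w = v0) := by
    rintro v w hv hw h ⟨rfl, h1⟩
    by_contra h2
    exact na6_H hi hw rfl ((c2_conj hi hv hw h).symm.trans (c2_v0 h1)) h2 (a6_rz.conj ((a6_H hv h1).symm.trans h))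
  rw [tyf_eq, tyf_eq, c2_conj hi hv hw h]
  exact if_congr ⟨key hv hw h, key hw hv h.symm⟩ rfl rfl

/-- counting -/
noncomputable def cntL (t : ℕ) (l : List ℕ) : ℕ := List.rec 0 (fun a _ ih => cond (Nat.beq a t) (Nat.succ ih) ih) l

/-- the numbers -/
def mK (i : ℕ) : List (ℕ × ℕ) := [[(0, 1), (1, 1771), (2, 276)], [(1, 16), (2, 112), (4, 448), (5, 448), (6, 1024)], [(1, 32), (2, 32), (4, 64), (5,
  1920)], [(3, 64), (8, 64), (9, 960), (10, 960)], [(3, 256), (9, 1792)], [(4, 128), (5, 128), (6, 768), (13, 1024)],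
  [(5, 256), (6, 256), (12, 1024), (14, 512)], [(5, 256), (6, 256), (14, 1536)], [(7, 256), (15, 256), (16, 1536)], [(9,
  256), (10, 256), (19, 256), (20, 256), (21, 1024)], [(9, 512), (10, 512), (19, 1024)], [(11, 512), (23, 1536)], [(11,
  512), (23, 1536)], [(13, 512), (14, 512), (25, 1024)], [(15, 512), (16, 512), (26, 1024)], [(18, 1024), (29, 1024)],
  [(19, 512), (20, 512), (31, 1024)], [(20, 1024), (21, 1024)], [(22, 1024), (32, 1024)], [(22, 1024), (32, 1024)],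
  [(24, 1024), (34, 1024)], [(24, 1024), (34, 1024)], [(27, 2048)], [(27, 2048)], [(30, 2048)], [(30, 2048)]].getD i []

private theorem hist (B t : ℕ) (l : List ℕ) (h : l.length < B) :
    (l.map (B ^ ·)).sum / B ^ t % B = l.countP fun a => Nat.beq a t := by
  have hB : 0 < B := by omega
  have key : ∃ lo X, (l.map (B ^ ·)).sum = lo + B ^ t * ((l.countP fun a => Nat.beq a t) + B * X) ∧
      lo * B ≤ l.length * B ^ t := by
    clear h
    induction l with
    | nil => exact ⟨0, 0, rfl, by rw [Nat.zero_mul]; exact Nat.zero_le _⟩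
    | cons a l ih =>
      obtain ⟨lo, X, h1, h2⟩ := ih
      rw [List.map_cons, List.sum_cons, h1, List.countP_cons, List.length_cons]
      rcases lt_trichotomy a t with hat | rfl | hat
      · refine ⟨B ^ a + lo, X, ?_, ?_⟩
        · rw [if_neg (by rw [Nat.beq_eq]; omega)]
          ring
        · have h3 : B ^ (a + 1) ≤ B ^ t := Nat.pow_le_pow_right hB hat
          rw [pow_succ] at h3
          rw [Nat.add_mul, Nat.add_mul, Nat.one_mul]
          omega
      · refine ⟨lo, X, ?_, ?_⟩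
        · rw [Nat.beq_refl, if_pos rfl]
          ring
        · rw [Nat.add_mul]
          omega
      · obtain ⟨d, rfl⟩ := Nat.exists_eq_add_of_lt hat
        refine ⟨lo, X + B ^ d, ?_, ?_⟩
        · rw [if_neg (by rw [Nat.beq_eq]; omega)]
          ring
        · rw [Nat.add_mul]
          omega
  obtain ⟨lo, X, h1, h2⟩ := key
  have h3 : 0 < B ^ t := Nat.pow_pos hB
  have h4 : lo < B ^ t := by
    have h5 : l.length * B ^ t < B * B ^ t := Nat.mul_lt_mul_of_pos_right h h3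
    rw [Nat.mul_comm B] at h5
    exact Nat.lt_of_mul_lt_mul_right (lt_of_le_of_lt h2 h5)
  rw [h1, Nat.add_mul_div_left _ _ h3, Nat.div_eq_of_lt h4, Nat.zero_add, Nat.add_mul_mod_self_left]
  exact Nat.mod_eq_of_lt (lt_of_le_of_lt List.countP_le_length h)

private noncomputable def cntF (i : ℕ) : Bool :=
  Nat.beq (mM i).length 11 && frc (clT (mJ i)) fun cl => frc (mT i) fun T => frcL (mM i) fun M =>
    frc (tsum (fun w => Nat.pow 4096 (cond (Nat.beq i 3 && Nat.beq w v0) 8 (tget T 6 (tget cl 4 w)))) M 0) fun S =>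
      allN (fun t => Nat.beq (Nat.mod (Nat.div S (Nat.pow 4096 t)) 4096) (look (mK i) t)) 44

private theorem cnt_F : allN cntF 26 = true := by decide +kernel

theorem cnt_H {i t : ℕ} (hi : i < 26) (ht : t < 44) :
    ((List.range 2048).countP fun v => Nat.beq (tyf i v) t) = look (mK i) t := by
  have h := allN_spec cnt_F i hi
  rw [cntF, Bool.and_eq_true, Nat.beq_eq, frc_eq, frc_eq, frcL_eq, frc_eq, tsum_eq] at h
  have h1 := Nat.eq_of_beq_eq_true (allN_spec h.2 t ht)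
  have h2 := hist 4096 t ((List.range 2048).map (tyf i)) (by rw [List.length_map, List.length_range]; decide)
  rw [List.countP_map, List.map_map] at h2
  rw [h.1] at h1
  simp only [Nat.xor_zero] at h1
  exact h2.symm.trans h1

theorem low_T {i v t q b : ℕ} (hi : i < 26) (hv : v < 2048) (ht : t < 44) (h : tyf i v = t) (hq : q ∣ cc (E (v, mP i)))
    (hc : Nat.Coprime q (2048 * mN i)) (hb : b * look (mK i) t ≤ q * (2048 * mN i)) : b ≤ cc (E (v, mP i)) :=
  low_H hi (fun w => Nat.beq (tyf i w) t) (fun w hw h1 => by rw [← tyf_conj hi hv hw h1, h, Nat.beq_refl])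
    (cnt_H hi ht).le hq hc hb

end Cfsg.Agent.TAB.J4

private theorem dce_04de30ca2850 : _root_.True := by
  try have : _root_.True := by simp only [_root_.Cfsg.Agent.TAB.J4.tyf.eq_1]
  try have : _root_.True := by simp only [_root_.Cfsg.Agent.TAB.J4.c2.eq_1]
  try have : _root_.True := by simp only [_root_.Cfsg.Agent.TAB.J4.oQ.eq_1]
  try have : _root_.True := by simp only [_root_.Cfsg.Agent.TAB.J4.tyg.eq_1]
  exact _root_.True.intro
end

-- part: TAB/J4/Rep
section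
prune_inst 0x7f00000000000000000000000000000000000000000000000000000000000000000000000000000000000000000000000000000000000000000000000000000000000000000000000000000000000000003fffffffffffffffffffffffffffbeffbdffffffff
set_option linter.all false
open scoped Cfsg.Agent.FastGrp

/-!
# Representatives of the 62 classes of `J4` and their centralizers (helper55, TAB)
-/

set_option autoImplicit false
set_option maxHeartbeats 400000

namespace Cfsg.Agent.TAB.J4

open Cfsg Subgroup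
open Cfsg.Agent.H860 Cfsg.Agent.H860.PairGroup
open Cfsg.Agent.SporadicStructure.M24El
open Cfsg.Agent.H858 Cfsg.Agent.H858.Elem
open Cfsg.Agent.H859

/-- the orders -/
def oL : List ℕ := [1, 2, 2, 3, 4, 4, 4, 5, 6, 6, 6, 7, 8, 8, 8, 10, 10, 11, 11, 12, 12, 12, 14, 14, 15, 16, 20, 21, 22, 22, 23, 24, 28,
  29, 30, 31, 33, 35, 37, 40, 42, 43, 44, 66]
/-- the orders -/
def tO (t : ℕ) : ℕ := oL.getD t 0
/-- the centralizers -/
def tC (t : ℕ) : ℕ := [86775571046077562880, 21799895040, 1816657920, 2661120, 5406720, 98304, 43008, 6720, 2661120, 2304, 2304, 840, 1280,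
  768, 512, 960, 80, 31944, 242, 192, 192, 48, 84, 56, 30, 32, 160, 42, 264, 22, 23, 48, 28, 29, 30, 31, 66, 35, 37, 40,
  42, 43, 44, 66].getD t 0
/-- the odd parts of the orders -/
def tE (t : ℕ) : ℕ := [1, 1, 1, 3, 1, 1, 1, 5, 3, 3, 3, 7, 1, 1, 1, 5, 5, 11, 11, 3, 3, 3, 7, 7, 15, 1, 5, 21, 11, 11, 23, 3, 7, 29, 15, 31,
  33, 35, 37, 5, 21, 43, 11, 33].getD t 0
/-- the classes of the 2-parts -/
def tJ (t : ℕ) : ℕ := [0, 1, 2, 0, 3, 4, 5, 0, 1, 1, 2, 0, 7, 8, 6, 1, 2, 0, 0, 3, 4, 5, 1, 2, 0, 9, 3, 0, 1, 2, 0, 8, 5, 0, 1, 0, 0, 0, 0, 7,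
  1, 0, 3, 1].getD t 0
/-- the exponents of the classes of a type -/
def tK (t : ℕ) : List ℕ := [[1], [1], [1], [1], [1], [1], [1], [1], [1], [1], [1], [1, 6], [1], [1], [1], [1], [1], [1], [1], [1], [1], [1], [1,
  13], [1, 13], [1], [1], [1, 17], [1, 13], [1], [1], [1], [1, 7], [1, 13], [1], [1], [1, 3, 9], [1, 10], [1, 6], [1, 2,
  4], [1, 17], [1, 13], [1, 3, 9], [1], [1, 43]].getD t []

/-- order 29 -/
noncomputable def x29 : Spor.J4 := (exists_ord (p := 29) (by norm_num) (by norm_num)).choose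
/-- order 31 -/
noncomputable def x31 : Spor.J4 := (exists_ord (p := 31) (by norm_num) (by norm_num)).choose
/-- order 37 -/
noncomputable def x37 : Spor.J4 := (exists_ord (p := 37) (by norm_num) (by norm_num)).choose
/-- order 43 -/
noncomputable def x43 : Spor.J4 := (exists_ord (p := 43) (by norm_num) (by norm_num)).choose

theorem ord29 : orderOf x29 = 29 := (exists_ord (p := 29) (by norm_num) (by norm_num)).choose_spec
theorem ord31 : orderOf x31 = 31 := (exists_ord (p := 31) (by norm_num) (by norm_num)).choose_spec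
theorem ord37 : orderOf x37 = 37 := (exists_ord (p := 37) (by norm_num) (by norm_num)).choose_spec
theorem ord43 : orderOf x43 = 43 := (exists_ord (p := 43) (by norm_num) (by norm_num)).choose_spec

/-- the representatives -/
noncomputable def R (t : ℕ) : Spor.J4 := [1, zz, E (5, mP 0), rr, E (5, mP 1), E (2, mP 1), E (1, mP 1), f, rr * zz, E (1, mP 3), E (3, mP 3), s, E (64, mP 6), E
  (1, mP 5), E (2, mP 6), f * j ^ 4, E (1, mP 8), NU.c, E (0, mP 15), E (11, mP 9), E (2, mP 9), E (1, mP 9), s * hp p2,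
  E (1, mP 11), E (0, mP 20), E (1, mP 13), f * j ^ 2, s * hp p3, NU.c * hs sZ, E (707, mP 15), E (0, mP 24), rr * u8, E
  (4, mP 18), x29, E (561, mP 20), x31, NU.c * hs sT, f * s, x37, f * j ^ 1, s * hp (p2 * p3), x43, NU.c * hs sI, NU.c *
  hs (sT * sZ)].getD t 1

/-- the properties of a representative -/
structure Rp (t : ℕ) (x : Spor.J4) : Prop where
  ord : orderOf x = tO t
  two : t ≠ 31 → IsConj (Q (tJ t)) (x ^ tE t)
  low : tC t ≤ cc x
  nc : (tK t).Pairwise fun a b => ¬ IsConj (x ^ a) (x ^ b)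

theorem low_ord {x : Spor.J4} {n : ℕ} (h : orderOf x = n) : n ≤ cc x :=
  Nat.le_of_dvd (cc_pos x) (h ▸ dvd_cc (Commute.refl x))

theorem two_odd {x : Spor.J4} {n : ℕ} (h : orderOf x = n) : IsConj (Q 0) (x ^ n) := by
  rw [Q_zero, ← h, pow_orderOf_eq_one]

theorem ot_H {t i v : ℕ} (h : i < 26 ∧ v < 2048 ∧ mE i = tE t ∧ c2 i v = tJ t ∧ tE t * oQ (tJ t) = tO t) :
    orderOf (E (v, mP i)) = tO t ∧ IsConj (Q (tJ t)) (E (v, mP i) ^ tE t) := by
  obtain ⟨h1, h2, h3, h4, h5⟩ := h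
  exact ⟨by rw [ord_H h1 h2, h3, h4, h5], h3 ▸ h4 ▸ two_H h1 h2⟩

theorem low_1 {t i v : ℕ} (h : i < 26 ∧ v < 2048 ∧ t < 44 ∧ tyf i v = t ∧
    tC t * Eng.look (mK i) t ≤ 1 * (2048 * mN i)) : tC t ≤ cc (E (v, mP i)) :=
  low_T h.1 h.2.1 h.2.2.1 h.2.2.2.1 (one_dvd _) (Nat.coprime_one_left _) h.2.2.2.2

theorem rp0 : Rp 0 (1) := ⟨orderOf_one, fun _ => two_odd orderOf_one, by
  rw [cc, (centralizer_eq_top_iff_subset).2 (by simp), card_top, card_J4]; rfl, List.pairwise_singleton _ _⟩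

theorem rp1 : Rp 1 (zz) := ⟨ord_z, fun _ => (pow_one zz).symm ▸ two_z, cc_z.ge, List.pairwise_singleton _ _⟩

theorem ot2 : orderOf (E (5, mP 0)) = tO 2 ∧ IsConj (Q (tJ 2)) (E (5, mP 0) ^ tE 2) := ot_H (by decide +kernel)

theorem rp2 : Rp 2 (E (5, mP 0)) := ⟨ot2.1, fun _ => ot2.2,
  low_1 (by decide +kernel),
  List.pairwise_singleton _ _⟩

theorem rp3 : Rp 3 (rr) := ⟨ord_r, fun _ => two_odd ord_r, low_r, List.pairwise_singleton _ _⟩

theorem ot4 : orderOf (E (5, mP 1)) = tO 4 ∧ IsConj (Q (tJ 4)) (E (5, mP 1) ^ tE 4) := ot_H (by decide +kernel)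

theorem rp4 : Rp 4 (E (5, mP 1)) := ⟨ot4.1, fun _ => ot4.2,
  low_T (t := 4) (q := 55) (by norm_num) (by norm_num) (by norm_num) (by decide +kernel) (by
    rw [← pow_one (E (5, mP 1))]
    exact cc_conj ot4.2 ▸ (by norm_num : Nat.Coprime 5 11).mul_dvd_of_dvd_of_dvd dvd5.1 dvd11) (by decide +kernel) (by decide +kernel),
  List.pairwise_singleton _ _⟩

theorem ot5 : orderOf (E (2, mP 1)) = tO 5 ∧ IsConj (Q (tJ 5)) (E (2, mP 1) ^ tE 5) := ot_H (by decide +kernel)

theorem rp5 : Rp 5 (E (2, mP 1)) := ⟨ot5.1, fun _ => ot5.2,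
  low_1 (by decide +kernel),
  List.pairwise_singleton _ _⟩

theorem ot6 : orderOf (E (1, mP 1)) = tO 6 ∧ IsConj (Q (tJ 6)) (E (1, mP 1) ^ tE 6) := ot_H (by decide +kernel)

theorem rp6 : Rp 6 (E (1, mP 1)) := ⟨ot6.1, fun _ => ot6.2,
  low_1 (by decide +kernel),
  List.pairwise_singleton _ _⟩

theorem rp7 : Rp 7 (f) := ⟨ord_f, fun _ => two_odd ord_f, cc_f.ge, List.pairwise_singleton _ _⟩

theorem rp8 : Rp 8 (rr * zz) := ⟨ord_rz, fun _ => pow_rz3.symm ▸ two_z, low_rz, List.pairwise_singleton _ _⟩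

theorem ot9 : orderOf (E (1, mP 3)) = tO 9 ∧ IsConj (Q (tJ 9)) (E (1, mP 3) ^ tE 9) := ot_H (by decide +kernel)

theorem rp9 : Rp 9 (E (1, mP 3)) := ⟨ot9.1, fun _ => ot9.2,
  low_1 (by decide +kernel),
  List.pairwise_singleton _ _⟩

theorem ot10 : orderOf (E (3, mP 3)) = tO 10 ∧ IsConj (Q (tJ 10)) (E (3, mP 3) ^ tE 10) := ot_H (by decide +kernel)

theorem rp10 : Rp 10 (E (3, mP 3)) := ⟨ot10.1, fun _ => ot10.2,
  low_1 (by decide +kernel),
  List.pairwise_singleton _ _⟩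

theorem rp11 : Rp 11 (s) := ⟨Loc5.orderOf_s, fun _ => two_odd Loc5.orderOf_s, cc_s.ge,
  List.pairwise_pair.2 (nc7 1 Loc5.orderOf_s (by decide))⟩

theorem ot12 : orderOf (E (64, mP 6)) = tO 12 ∧ IsConj (Q (tJ 12)) (E (64, mP 6) ^ tE 12) := ot_H (by decide +kernel)

theorem rp12 : Rp 12 (E (64, mP 6)) := ⟨ot12.1, fun _ => ot12.2,
  low_T (t := 12) (q := 5) (by norm_num) (by norm_num) (by norm_num) (by decide +kernel) (by
    rw [← pow_one (E (64, mP 6))]
    exact cc_conj ot12.2 ▸ dvd5.2) (by decide +kernel) (by decide +kernel),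
  List.pairwise_singleton _ _⟩

theorem ot13 : orderOf (E (1, mP 5)) = tO 13 ∧ IsConj (Q (tJ 13)) (E (1, mP 5) ^ tE 13) := ot_H (by decide +kernel)

theorem rp13 : Rp 13 (E (1, mP 5)) := ⟨ot13.1, fun _ => ot13.2,
  low_1 (by decide +kernel),
  List.pairwise_singleton _ _⟩

theorem ot14 : orderOf (E (2, mP 6)) = tO 14 ∧ IsConj (Q (tJ 14)) (E (2, mP 6) ^ tE 14) := ot_H (by decide +kernel)

theorem rp14 : Rp 14 (E (2, mP 6)) := ⟨ot14.1, fun _ => ot14.2,
  low_1 (by decide +kernel),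
  List.pairwise_singleton _ _⟩

theorem rp15 : Rp 15 (f * j ^ 4) := ⟨ord_fj 4, fun _ => two10, low10, List.pairwise_singleton _ _⟩

theorem ot16 : orderOf (E (1, mP 8)) = tO 16 ∧ IsConj (Q (tJ 16)) (E (1, mP 8) ^ tE 16) := ot_H (by decide +kernel)

theorem rp16 : Rp 16 (E (1, mP 8)) := ⟨ot16.1, fun _ => ot16.2,
  low_1 (by decide +kernel),
  List.pairwise_singleton _ _⟩

theorem rp17 : Rp 17 (NU.c) := ⟨ord_c, fun _ => two_odd ord_c, cc_c.ge, List.pairwise_singleton _ _⟩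

theorem ot18 : orderOf (E (0, mP 15)) = tO 18 ∧ IsConj (Q (tJ 18)) (E (0, mP 15) ^ tE 18) := ot_H (by decide +kernel)

theorem rp18 : Rp 18 (E (0, mP 15)) := ⟨ot18.1, fun _ => ot18.2,
  cc_11.ge,
  List.pairwise_singleton _ _⟩

theorem ot19 : orderOf (E (11, mP 9)) = tO 19 ∧ IsConj (Q (tJ 19)) (E (11, mP 9) ^ tE 19) := ot_H (by decide +kernel)

theorem rp19 : Rp 19 (E (11, mP 9)) := ⟨ot19.1, fun _ => ot19.2,
  low_1 (by decide +kernel),
  List.pairwise_singleton _ _⟩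

theorem ot20 : orderOf (E (2, mP 9)) = tO 20 ∧ IsConj (Q (tJ 20)) (E (2, mP 9) ^ tE 20) := ot_H (by decide +kernel)

theorem rp20 : Rp 20 (E (2, mP 9)) := ⟨ot20.1, fun _ => ot20.2,
  low_1 (by decide +kernel),
  List.pairwise_singleton _ _⟩

theorem ot21 : orderOf (E (1, mP 9)) = tO 21 ∧ IsConj (Q (tJ 21)) (E (1, mP 9) ^ tE 21) := ot_H (by decide +kernel)

theorem rp21 : Rp 21 (E (1, mP 9)) := ⟨ot21.1, fun _ => ot21.2,
  low_1 (by decide +kernel),
  List.pairwise_singleton _ _⟩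

theorem rp22 : Rp 22 (s * hp p2) := ⟨ord14, fun _ => two14, low14, List.pairwise_pair.2 (nc7 2 ord14 (by decide))⟩

theorem ot23 : orderOf (E (1, mP 11)) = tO 23 ∧ IsConj (Q (tJ 23)) (E (1, mP 11) ^ tE 23) := ot_H (by decide +kernel)

theorem rp23 : Rp 23 (E (1, mP 11)) := ⟨ot23.1, fun _ => ot23.2,
  low_1 (by decide +kernel),
  List.pairwise_pair.2 (nc7 2 ot23.1 (by decide))⟩

theorem ot24 : orderOf (E (0, mP 20)) = tO 24 ∧ IsConj (Q (tJ 24)) (E (0, mP 20) ^ tE 24) := ot_H (by decide +kernel)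

theorem rp24 : Rp 24 (E (0, mP 20)) := ⟨ot24.1, fun _ => ot24.2,
  Nat.le_of_dvd (cc_pos _) (by
    have h := dvd_cc (com_of (a := (0, mP 20)) (b := (561, mP 20)) (by decide +kernel)).symm
    rwa [(ot_H (t := 34) (i := 20) (v := 561) (by decide +kernel)).1] at h),
  List.pairwise_singleton _ _⟩

theorem ot25 : orderOf (E (1, mP 13)) = tO 25 ∧ IsConj (Q (tJ 25)) (E (1, mP 13) ^ tE 25) := ot_H (by decide +kernel)

theorem rp25 : Rp 25 (E (1, mP 13)) := ⟨ot25.1, fun _ => ot25.2,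
  low_1 (by decide +kernel),
  List.pairwise_singleton _ _⟩

theorem rp26 : Rp 26 (f * j ^ 2) := ⟨ord_fj 2, fun _ => two20, low20, List.pairwise_pair.2 (nc20)⟩

theorem rp27 : Rp 27 (s * hp p3) := ⟨ord21, fun _ => two_odd ord21, low21, List.pairwise_pair.2 (nc7 3 ord21 (by decide))⟩

theorem rp28 : Rp 28 (NU.c * hs sZ) := ⟨ord22, fun _ => two22, low22, List.pairwise_singleton _ _⟩

theorem ot29 : orderOf (E (707, mP 15)) = tO 29 ∧ IsConj (Q (tJ 29)) (E (707, mP 15) ^ tE 29) := ot_H (by decide +kernel)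

theorem rp29 : Rp 29 (E (707, mP 15)) := ⟨ot29.1, fun _ => ot29.2,
  low_ord ot29.1,
  List.pairwise_singleton _ _⟩

theorem ot30 : orderOf (E (0, mP 24)) = tO 30 ∧ IsConj (Q (tJ 30)) (E (0, mP 24) ^ tE 30) := ot_H (by decide +kernel)

theorem rp30 : Rp 30 (E (0, mP 24)) := ⟨ot30.1, fun _ => ot30.2,
  low_ord ot30.1,
  List.pairwise_singleton _ _⟩

theorem rp31 : Rp 31 (rr * u8) := ⟨ord24, fun h => absurd rfl h, low24, List.pairwise_pair.2 (nc24)⟩

theorem ot32 : orderOf (E (4, mP 18)) = tO 32 ∧ IsConj (Q (tJ 32)) (E (4, mP 18) ^ tE 32) := ot_H (by decide +kernel)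

theorem rp32 : Rp 32 (E (4, mP 18)) := ⟨ot32.1, fun _ => ot32.2,
  low_ord ot32.1,
  List.pairwise_pair.2 (nc7 4 ot32.1 (by decide))⟩

theorem rp33 : Rp 33 (x29) := ⟨ord29, fun _ => two_odd ord29, low_ord ord29, List.pairwise_singleton _ _⟩

theorem ot34 : orderOf (E (561, mP 20)) = tO 34 ∧ IsConj (Q (tJ 34)) (E (561, mP 20) ^ tE 34) := ot_H (by decide +kernel)

theorem rp34 : Rp 34 (E (561, mP 20)) := ⟨ot34.1, fun _ => ot34.2,
  low_ord ot34.1,
  List.pairwise_singleton _ _⟩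

theorem rp35 : Rp 35 (x31) := ⟨ord31, fun _ => two_odd ord31, low_ord ord31,
  ncp (c := 3) ord31 BigNum.data31 (by norm_num) (by decide) (by decide)⟩

theorem rp36 : Rp 36 (NU.c * hs sT) := ⟨ord33, fun _ => two_odd ord33, low33, List.pairwise_pair.2 (nc33)⟩

theorem rp37 : Rp 37 (f * s) := ⟨ord35, fun _ => two_odd ord35, low_ord ord35, List.pairwise_pair.2 (nc7 5 ord35 (by decide))⟩

theorem rp38 : Rp 38 (x37) := ⟨ord37, fun _ => two_odd ord37, low_ord ord37,
  ncp (c := 2) ord37 BigNum.data37 (by norm_num) (by decide) (by decide)⟩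

theorem rp39 : Rp 39 (f * j ^ 1) := ⟨ord_fj 1, fun _ => two40, low_ord (ord_fj 1), List.pairwise_pair.2 (nc40)⟩

theorem rp40 : Rp 40 (s * hp (p2 * p3)) := ⟨ord42, fun _ => two42, low_ord ord42, List.pairwise_pair.2 (nc7 6 ord42 (by decide))⟩

theorem rp41 : Rp 41 (x43) := ⟨ord43, fun _ => two_odd ord43, low_ord ord43,
  ncp (c := 3) ord43 BigNum.data43 (by norm_num) (by decide) (by decide)⟩

theorem rp42 : Rp 42 (NU.c * hs sI) := ⟨ord44, fun _ => two44, low_ord ord44, List.pairwise_singleton _ _⟩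

theorem rp43 : Rp 43 (NU.c * hs (sT * sZ)) := ⟨ord66, fun _ => two66, low_ord ord66, List.pairwise_pair.2 (nc66)⟩

theorem R_0 : R 0 = 1 := by
  simp only [R, List.getD_cons_zero]
theorem R_1 : R 1 = zz := by
  simp only [R, List.getD_cons_succ, List.getD_cons_zero]
theorem R_2 : R 2 = E (5, mP 0) := by
  simp only [R, List.getD_cons_succ, List.getD_cons_zero]
theorem R_3 : R 3 = rr := by
  simp only [R, List.getD_cons_succ, List.getD_cons_zero]
theorem R_4 : R 4 = E (5, mP 1) := by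
  simp only [R, List.getD_cons_succ, List.getD_cons_zero]
theorem R_5 : R 5 = E (2, mP 1) := by
  simp only [R, List.getD_cons_succ, List.getD_cons_zero]
theorem R_6 : R 6 = E (1, mP 1) := by
  simp only [R, List.getD_cons_succ, List.getD_cons_zero]
theorem R_7 : R 7 = f := by
  simp only [R, List.getD_cons_succ, List.getD_cons_zero]
theorem R_8 : R 8 = rr * zz := by
  simp only [R, List.getD_cons_succ, List.getD_cons_zero]
theorem R_9 : R 9 = E (1, mP 3) := by
  simp only [R, List.getD_cons_succ, List.getD_cons_zero]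
theorem R_10 : R 10 = E (3, mP 3) := by
  simp only [R, List.getD_cons_succ, List.getD_cons_zero]
theorem R_11 : R 11 = s := by
  simp only [R, List.getD_cons_succ, List.getD_cons_zero]
theorem R_12 : R 12 = E (64, mP 6) := by
  simp only [R, List.getD_cons_succ, List.getD_cons_zero]
theorem R_13 : R 13 = E (1, mP 5) := by
  simp only [R, List.getD_cons_succ, List.getD_cons_zero]
theorem R_14 : R 14 = E (2, mP 6) := by
  simp only [R, List.getD_cons_succ, List.getD_cons_zero]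
theorem R_15 : R 15 = f * j ^ 4 := by
  simp only [R, List.getD_cons_succ, List.getD_cons_zero]
theorem R_16 : R 16 = E (1, mP 8) := by
  simp only [R, List.getD_cons_succ, List.getD_cons_zero]
theorem R_17 : R 17 = NU.c := by
  simp only [R, List.getD_cons_succ, List.getD_cons_zero]
theorem R_18 : R 18 = E (0, mP 15) := by
  simp only [R, List.getD_cons_succ, List.getD_cons_zero]
theorem R_19 : R 19 = E (11, mP 9) := by
  simp only [R, List.getD_cons_succ, List.getD_cons_zero]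
theorem R_20 : R 20 = E (2, mP 9) := by
  simp only [R, List.getD_cons_succ, List.getD_cons_zero]
theorem R_21 : R 21 = E (1, mP 9) := by
  simp only [R, List.getD_cons_succ, List.getD_cons_zero]
theorem R_22 : R 22 = s * hp p2 := by
  simp only [R, List.getD_cons_succ, List.getD_cons_zero]
theorem R_23 : R 23 = E (1, mP 11) := by
  simp only [R, List.getD_cons_succ, List.getD_cons_zero]
theorem R_24 : R 24 = E (0, mP 20) := by
  simp only [R, List.getD_cons_succ, List.getD_cons_zero]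
theorem R_25 : R 25 = E (1, mP 13) := by
  simp only [R, List.getD_cons_succ, List.getD_cons_zero]
theorem R_26 : R 26 = f * j ^ 2 := by
  simp only [R, List.getD_cons_succ, List.getD_cons_zero]
theorem R_27 : R 27 = s * hp p3 := by
  simp only [R, List.getD_cons_succ, List.getD_cons_zero]
theorem R_28 : R 28 = NU.c * hs sZ := by
  simp only [R, List.getD_cons_succ, List.getD_cons_zero]
theorem R_29 : R 29 = E (707, mP 15) := by
  simp only [R, List.getD_cons_succ, List.getD_cons_zero]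
theorem R_30 : R 30 = E (0, mP 24) := by
  simp only [R, List.getD_cons_succ, List.getD_cons_zero]
theorem R_31 : R 31 = rr * u8 := by
  simp only [R, List.getD_cons_succ, List.getD_cons_zero]
theorem R_32 : R 32 = E (4, mP 18) := by
  simp only [R, List.getD_cons_succ, List.getD_cons_zero]
theorem R_33 : R 33 = x29 := by
  simp only [R, List.getD_cons_succ, List.getD_cons_zero]
theorem R_34 : R 34 = E (561, mP 20) := by
  simp only [R, List.getD_cons_succ, List.getD_cons_zero]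
theorem R_35 : R 35 = x31 := by
  simp only [R, List.getD_cons_succ, List.getD_cons_zero]
theorem R_36 : R 36 = NU.c * hs sT := by
  simp only [R, List.getD_cons_succ, List.getD_cons_zero]
theorem R_37 : R 37 = f * s := by
  simp only [R, List.getD_cons_succ, List.getD_cons_zero]
theorem R_38 : R 38 = x37 := by
  simp only [R, List.getD_cons_succ, List.getD_cons_zero]
theorem R_39 : R 39 = f * j ^ 1 := by
  simp only [R, List.getD_cons_succ, List.getD_cons_zero]
theorem R_40 : R 40 = s * hp (p2 * p3) := by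
  simp only [R, List.getD_cons_succ, List.getD_cons_zero]
theorem R_41 : R 41 = x43 := by
  simp only [R, List.getD_cons_succ, List.getD_cons_zero]
theorem R_42 : R 42 = NU.c * hs sI := by
  simp only [R, List.getD_cons_succ, List.getD_cons_zero]
theorem R_43 : R 43 = NU.c * hs (sT * sZ) := by
  simp only [R, List.getD_cons_succ, List.getD_cons_zero]

theorem rp {t : ℕ} (ht : t < 44) : Rp t (R t) := by
  interval_cases t
  · rw [R_0]; exact rp0
  · rw [R_1]; exact rp1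
  · rw [R_2]; exact rp2
  · rw [R_3]; exact rp3
  · rw [R_4]; exact rp4
  · rw [R_5]; exact rp5
  · rw [R_6]; exact rp6
  · rw [R_7]; exact rp7
  · rw [R_8]; exact rp8
  · rw [R_9]; exact rp9
  · rw [R_10]; exact rp10
  · rw [R_11]; exact rp11
  · rw [R_12]; exact rp12
  · rw [R_13]; exact rp13
  · rw [R_14]; exact rp14
  · rw [R_15]; exact rp15
  · rw [R_16]; exact rp16
  · rw [R_17]; exact rp17
  · rw [R_18]; exact rp18
  · rw [R_19]; exact rp19
  · rw [R_20]; exact rp20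
  · rw [R_21]; exact rp21
  · rw [R_22]; exact rp22
  · rw [R_23]; exact rp23
  · rw [R_24]; exact rp24
  · rw [R_25]; exact rp25
  · rw [R_26]; exact rp26
  · rw [R_27]; exact rp27
  · rw [R_28]; exact rp28
  · rw [R_29]; exact rp29
  · rw [R_30]; exact rp30
  · rw [R_31]; exact rp31
  · rw [R_32]; exact rp32
  · rw [R_33]; exact rp33
  · rw [R_34]; exact rp34
  · rw [R_35]; exact rp35
  · rw [R_36]; exact rp36
  · rw [R_37]; exact rp37
  · rw [R_38]; exact rp38
  · rw [R_39]; exact rp39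
  · rw [R_40]; exact rp40
  · rw [R_41]; exact rp41
  · rw [R_42]; exact rp42
  · rw [R_43]; exact rp43

theorem na6_9 : ¬ A6 (R 9) := R_9 ▸ na6_H (i := 3) (v := 1) (by norm_num) (by norm_num) rfl (by decide +kernel) (by decide +kernel)

theorem na6_19 : ¬ A6 (R 19 ^ 2) := by
  rw [R_19, ← E_pw (a := (11, mP 9)) (ok_mP 9)]
  exact na6_of (e := (29, 966523118169800379397712788959857696)) (by decide +kernel) (by decide +kernel) (by decide +kernel)

theorem na6_20 : ¬ A6 (R 20 ^ 2) := by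
  rw [R_20, ← E_pw (a := (2, mP 9)) (ok_mP 9)]
  exact na6_of (e := (0, 958451029172002204203126923072919584)) (by decide +kernel) (by decide +kernel) (by decide +kernel)

theorem cc_29 : cc (R 29 ^ 2) = 242 := by
  have h : orderOf (R 29 ^ 2) = 11 := by rw [orderOf_pow, (rp (t := 29) (by norm_num)).ord]; rfl
  rw [← cc_pow (k := 6) (by rw [h]; norm_num), ← pow_mul, R_29,
    ← E_pw (a := (707, mP 15)) (ok_mP 15), eqc_eq (a := Tab.pw (707, mP 15) (2 * 6)) (b := (0, mP 15)) (by decide +kernel), cc_11]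

/-- the classes -/
def cL : List (ℕ × ℕ) := [(0, 1), (1, 1), (2, 1), (3, 1), (4, 1), (5, 1), (6, 1), (7, 1), (8, 1), (9, 1), (10, 1), (11, 1), (11, 6), (12, 1),
  (13, 1), (14, 1), (15, 1), (16, 1), (17, 1), (18, 1), (19, 1), (20, 1), (21, 1), (22, 1), (22, 13), (23, 1), (23, 13),
  (24, 1), (25, 1), (26, 1), (26, 17), (27, 1), (27, 13), (28, 1), (29, 1), (30, 1), (31, 1), (31, 7), (32, 1), (32,
  13), (33, 1), (34, 1), (35, 1), (35, 3), (35, 9), (36, 1), (36, 10), (37, 1), (37, 6), (38, 1), (38, 2), (38, 4), (39,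
  1), (39, 17), (40, 1), (40, 13), (41, 1), (41, 3), (41, 9), (42, 1), (43, 1), (43, 43)]

theorem cL_ok : ∀ p ∈ cL, p.1 < 44 ∧ p.2 ∈ tK p.1 ∧ Nat.Coprime p.2 (tO p.1) ∧ tJ p.1 < 10 ∧
    (p.1 = 31 ∨ p.2 * tE p.1 ≡ tE p.1 [MOD tO p.1]) := by decide +kernel

theorem ord_L {p : ℕ × ℕ} (hp : p ∈ cL) : orderOf (R p.1 ^ p.2) = tO p.1 := by
  obtain ⟨h1, -, h2, -⟩ := cL_ok p hp
  rw [← (rp h1).ord] at h2 ⊢
  exact h2.symm.orderOf_pow

theorem cc_L {p : ℕ × ℕ} (hp : p ∈ cL) : cc (R p.1 ^ p.2) = cc (R p.1) := by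
  obtain ⟨h1, -, h2, -⟩ := cL_ok p hp
  exact cc_pow ((rp h1).ord ▸ h2)

theorem two_L {p : ℕ × ℕ} (hp : p ∈ cL) (h : p.1 ≠ 31) : IsConj (Q (tJ p.1)) ((R p.1 ^ p.2) ^ tE p.1) := by
  obtain ⟨h1, -, -, -, h2⟩ := cL_ok p hp
  rw [← pow_mul, pow_eq_pow_iff_modEq.2 ((rp h1).ord ▸ h2.resolve_left h)]
  exact (rp h1).two h

theorem pw_ne {x : Spor.J4} {l : List ℕ} (h : l.Pairwise fun a b => ¬ IsConj (x ^ a) (x ^ b)) {a b : ℕ} (ha : a ∈ l)
    (hb : b ∈ l) (hab : a ≠ b) : ¬ IsConj (x ^ a) (x ^ b) := by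
  induction h with
  | nil => simp at ha
  | cons h1 _ ih =>
    rcases List.mem_cons.1 ha with rfl | ha' <;> rcases List.mem_cons.1 hb with rfl | hb'
    · exact absurd rfl hab
    · exact h1 _ hb'
    · exact fun h => h1 _ ha' h.symm
    · exact ih ha' hb'

theorem card_classes : Nat.card (ConjClasses Spor.J4) = 62 := by
  have hsim : IsSimpleGroup Spor.J4 := H858.VK.isJ4.1
  exact H860.Sixty.card_classes (H337.isOfJankoFourType_of_isoJ4 (G := Spor.J4) ⟨MulEquiv.refl _⟩)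
    H865.RhoEleven.nc_eleven

theorem inj_L : ∀ p ∈ cL, ∀ q ∈ cL, IsConj (R p.1 ^ p.2) (R q.1 ^ q.2) → p = q := by
  have key : ∀ p ∈ cL, ∀ q ∈ cL, tO p.1 = tO q.1 → p.1 = q.1 ∨ (tJ p.1 ≠ tJ q.1 ∧ tE p.1 = tE q.1 ∧ p.1 ≠ 31 ∧
      q.1 ≠ 31) ∨ (p = (8, 1) ∧ q = (9, 1)) ∨ (p = (9, 1) ∧ q = (8, 1)) ∨ (p = (17, 1) ∧ q = (18, 1)) ∨
        (p = (18, 1) ∧ q = (17, 1)) := by decide +kernel
  have h89 : ¬ IsConj (R 8 ^ 1) (R 9 ^ 1) := fun h => by
    rw [pow_one, pow_one, R_8] at h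
    exact na6_9 (a6_rz.conj h)
  have h11 : ¬ IsConj (R 17 ^ 1) (R 18 ^ 1) := fun h => by
    rw [pow_one, pow_one, R_17, R_18] at h
    exact absurd (cc_c.symm.trans ((cc_conj h).trans cc_11)) (by norm_num)
  intro p hp q hq h
  rcases key p hp q hq ((ord_L hp).symm.trans ((ord_conj h).trans (ord_L hq))) with h1 | ⟨h1, h2, h3, h4⟩ |
    ⟨rfl, rfl⟩ | ⟨rfl, rfl⟩ | ⟨rfl, rfl⟩ | ⟨rfl, rfl⟩
  · refine Prod.ext h1 (by_contra fun h2 => ?_)
    rw [← h1] at h
    exact pw_ne (rp (cL_ok p hp).1).nc (cL_ok p hp).2.1 (h1 ▸ (cL_ok q hq).2.1) h2 h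
  · exact absurd (Q_inj (cL_ok p hp).2.2.2.1 (cL_ok q hq).2.2.2.1
      ((two_L hp h3).trans ((isConj_pow h _).trans (h2 ▸ (two_L hq h4).symm)))) h1
  · exact absurd h h89
  · exact absurd h.symm h89
  · exact absurd h h11
  · exact absurd h.symm h11

/-- **the classes of `J4`** -/
theorem classes : (∀ g, ∃ p ∈ cL, IsConj (R p.1 ^ p.2) g) ∧ ∀ p ∈ cL, cc (R p.1 ^ p.2) = tC p.1 :=
  exact_of_lower cL (by decide +kernel) (fun p => R p.1 ^ p.2) (fun p => tC p.1) card_J4 card_classes inj_L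
    (fun p hp => (cc_L hp).symm ▸ (rp (cL_ok p hp).1).low) (by decide +kernel) (by decide +kernel)

end Cfsg.Agent.TAB.J4

private theorem dce_d6fa53282a50 : _root_.True := by
  try have : _root_.True := by simp only [_root_.Cfsg.Agent.TAB.J4.cc.eq_1]
  try have : _root_.True := by simp only [_root_.Cfsg.Agent.TAB.J4.R.eq_1]
  exact _root_.True.intro
end

-- part: TAB/J4/Ty
section
set_option linter.all false
open scoped Cfsg.Agent.FastGrp

/-!
# The 44 rational classes of `J4` as types (helper55, TAB)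
-/

set_option autoImplicit false
set_option maxHeartbeats 400000

namespace Cfsg.Agent.TAB.J4

open Cfsg Subgroup Cfsg.Agent.TAB.Eng
open Cfsg.Agent.H860 Cfsg.Agent.H860.PairGroup
open Cfsg.Agent.SporadicStructure.M24El
open Cfsg.Agent.H858 Cfsg.Agent.H858.Elem
open Cfsg.Agent.H859

/-- the numerical data -/
def D : Dat where
  n := 44
  N := 86775571046077562880
  ordL := [1, 2, 2, 3, 4, 4, 4, 5, 6, 6, 6, 7, 8, 8, 8, 10, 10, 11, 11, 12, 12, 12, 14, 14, 15, 16, 20, 21, 22, 22, 23, 24, 28,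
    29, 30, 31, 33, 35, 37, 40, 42, 43, 44, 66]
  cntL := [1, 3980549947, 47766599364, 32608665165824, 16049577386304, 882726756246720, 2017661157135360, 12913031405666304,
    32608665165824, 37663008266526720, 37663008266526720, 206608502490660864, 67793414879748096, 112989024799580160,
    169483537199370240, 90391219839664128, 1084694638075969536, 2716490453483520, 358576739859824640, 451956099198320640,
    451956099198320640, 1807824396793282560, 2066085024906608640, 3099127537359912960, 2892519034869252096,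
    2711736595189923840, 1084694638075969536, 4132170049813217280, 328695344871505920, 3944344138458071040,
    3772850915046850560, 3615648793586565120, 6198255074719825920, 2992261070554398720, 2892519034869252096,
    8397635907684925440, 2629562758972047360, 4958604059775860736, 7035857111844126720, 4338778552303878144,
    4132170049813217280, 6054109607865876480, 1972172069229035520, 2629562758972047360]
  pwL := [[],
    [(1, 1)],
    [(1, 2)],
    [(1, 3)],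
    [(1, 4), (2, 1)],
    [(1, 5), (2, 1)],
    [(1, 6), (2, 2)],
    [(1, 7)],
    [(1, 8), (2, 3), (3, 1)],
    [(1, 9), (2, 3), (3, 1)],
    [(1, 10), (2, 3), (3, 2)],
    [(1, 11)],
    [(1, 12), (2, 4), (4, 1)],
    [(1, 13), (2, 5), (4, 1)],
    [(1, 14), (2, 5), (4, 1)],
    [(1, 15), (2, 7), (5, 1)],
    [(1, 16), (2, 7), (5, 2)],
    [(1, 17)],
    [(1, 18)],
    [(1, 19), (2, 9), (3, 4), (4, 3), (6, 1)],
    [(1, 20), (2, 9), (3, 5), (4, 3), (6, 1)],
    [(1, 21), (2, 10), (3, 6), (4, 3), (6, 2)],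
    [(1, 22), (2, 11), (7, 1)],
    [(1, 23), (2, 11), (7, 2)],
    [(1, 24), (3, 7), (5, 3)],
    [(1, 25), (2, 14), (4, 5), (8, 1)],
    [(1, 26), (2, 15), (4, 7), (5, 4), (10, 1)],
    [(1, 27), (3, 11), (7, 3)],
    [(1, 28), (2, 17), (11, 1)],
    [(1, 29), (2, 18), (11, 2)],
    [(1, 30)],
    [(1, 31), (2, 20), (3, 13), (4, 9), (6, 5), (8, 3), (12, 1)],
    [(1, 32), (2, 23), (4, 11), (7, 6), (14, 2)],
    [(1, 33)],
    [(1, 34), (2, 24), (3, 15), (5, 8), (6, 7), (10, 3), (15, 1)],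
    [(1, 35)],
    [(1, 36), (3, 17), (11, 3)],
    [(1, 37), (5, 11), (7, 7)],
    [(1, 38)],
    [(1, 39), (2, 26), (4, 15), (5, 12), (8, 7), (10, 4), (20, 1)],
    [(1, 40), (2, 27), (3, 22), (6, 11), (7, 8), (14, 3), (21, 1)],
    [(1, 41)],
    [(1, 42), (2, 28), (4, 17), (11, 4), (22, 1)],
    [(1, 43), (2, 36), (3, 28), (6, 17), (11, 8), (22, 3), (33, 1)]]

/-- `g` lies in a class of the type `t` -/
def Is (t : ℕ) (g : Spor.J4) : Prop := ∃ k, (t, k) ∈ cL ∧ IsConj (R t ^ k) g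

theorem ex_is (g : Spor.J4) : ∃ t, Is t g := by
  obtain ⟨p, hp, h⟩ := classes.1 g
  exact ⟨p.1, p.2, hp, h⟩

theorem Is.lt {t : ℕ} {g : Spor.J4} (h : Is t g) : t < 44 := by
  obtain ⟨k, h1, -⟩ := h
  exact (cL_ok _ h1).1

theorem Is.ord {t : ℕ} {g : Spor.J4} (h : Is t g) : orderOf g = tO t := by
  obtain ⟨k, h1, h2⟩ := h
  rw [← ord_conj h2]
  exact ord_L (p := (t, k)) h1

theorem Is.cen {t : ℕ} {g : Spor.J4} (h : Is t g) : cc g = tC t := by
  obtain ⟨k, h1, h2⟩ := h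
  rw [← cc_conj h2]
  exact classes.2 (t, k) h1

theorem Is.conj {t : ℕ} {g x : Spor.J4} (h : Is t g) (hc : IsConj g x) : Is t x :=
  h.imp fun _ h1 => ⟨h1.1, h1.2.trans hc⟩

theorem Is.one {t : ℕ} {g : Spor.J4} (h : Is t g) (ht : tK t = [1]) : IsConj (R t) g := by
  obtain ⟨k, h1, h2⟩ := h
  have h3 := (cL_ok _ h1).2.1
  rw [ht, List.mem_singleton] at h3
  obtain rfl : k = 1 := h3
  rwa [pow_one] at h2

theorem is_R {t : ℕ} (ht : t < 44) : Is t (R t) :=
  ⟨1, (by decide +kernel : ∀ t < 44, (t, 1) ∈ cL) t ht, by rw [pow_one]⟩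

theorem Is.two' {t : ℕ} {g : Spor.J4} (h : Is t g) (ht : t ≠ 31) : IsConj (Q (tJ t)) (g ^ tE t) := by
  obtain ⟨k, h1, h2⟩ := h
  exact (two_L (p := (t, k)) h1 ht).trans (isConj_pow h2 _)

theorem Is.two {t : ℕ} {g : Spor.J4} (h : Is t g) : IsConj (Q (tJ t)) (g ^ tE t) := by
  by_cases ht : t = 31
  · subst ht
    obtain ⟨s, hs⟩ := ex_is (g ^ 3)
    have h1 : tO s = 8 := by rw [← hs.ord, orderOf_pow, h.ord]; rfl
    have h2 : tC 31 ∣ tC s := h.cen ▸ hs.cen ▸ cc_dvd_pow g 3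
    obtain rfl := (by decide +kernel : ∀ s < 44, tO s = 8 → tC 31 ∣ tC s → s = 13) s hs.lt h1 h2
    exact pow_one (g ^ 3) ▸ hs.two' (by norm_num)
  · exact h.two' ht

theorem Q_it {i : ℕ} (hi : i < 10) (b : ℕ) : sqQ^[b] i < 10 ∧ IsConj (Q (sqQ^[b] i)) (Q i ^ 2 ^ b) := by
  induction b with
  | zero => exact ⟨hi, by rw [pow_zero, pow_one]; rfl⟩
  | succ b ih =>
    rw [Function.iterate_succ_apply', pow_succ, pow_mul]
    exact ⟨(by decide : ∀ j < 10, sqQ j < 10) _ ih.1, (Q_sq ih.1).trans (isConj_pow ih.2 2)⟩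

theorem tJ_lt {t : ℕ} (ht : t < 44) : tJ t < 10 := (by decide +kernel : ∀ t < 44, tJ t < 10) t ht

set_option synthInstance.maxSize 4096 in
set_option synthInstance.maxHeartbeats 200000 in
theorem pw_chk : ∀ t < 44, ∀ p ∈ D.pw t, (p.1 = 1 ∧ p.2 = t) ∨ (p.1 ≠ 0 ∧ p.1 ∣ tO t ∧ ∀ s < 44, tO s = tO t / p.1 →
    tC t ∣ tC s → ∃ b < 5, p.1 * tE s = tE t * 2 ^ b ∧ (tJ s = sqQ^[b] (tJ t) → s = p.2 ∨
      (s = 8 ∧ ((t = 19 ∧ p.1 = 2) ∨ (t = 20 ∧ p.1 = 2) ∨ (t = 31 ∧ p.1 = 4))) ∨ (s = 17 ∧ t = 29 ∧ p.1 = 2))) := by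
  decide +kernel

theorem pw_aux {t : ℕ} (ht : t < 44) {p : ℕ × ℕ} (hp : p ∈ D.pw t) : Is p.2 (R t ^ p.1) ∨
    (A6 (R t ^ p.1) ∧ ((t = 19 ∧ p.1 = 2) ∨ (t = 20 ∧ p.1 = 2) ∨ (t = 31 ∧ p.1 = 4))) := by
  rcases pw_chk t ht p hp with ⟨h1, h2⟩ | ⟨h1, h2, h3⟩
  · rw [h1, h2, pow_one]
    exact Or.inl (is_R ht)
  obtain ⟨s, hs⟩ := ex_is (R t ^ p.1)
  have h := is_R ht
  obtain ⟨b, -, h4, h5⟩ := h3 s hs.lt (by rw [← hs.ord, orderOf_pow_of_dvd h1 (h.ord ▸ h2), h.ord])
    (h.cen ▸ hs.cen ▸ cc_dvd_pow _ _)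
  have h6 := hs.two
  rw [← pow_mul, h4, pow_mul] at h6
  rcases h5 (Q_inj (tJ_lt hs.lt) (Q_it (tJ_lt ht) b).1
    (h6.trans ((Q_it (tJ_lt ht) b).2.trans (isConj_pow h.two _)).symm)) with rfl | ⟨rfl, h7⟩ | ⟨rfl, rfl, h7⟩
  · exact Or.inl hs
  · exact Or.inr ⟨a6_rz.conj (R_8 ▸ hs.one rfl), h7⟩
  · rw [h7] at hs
    exact absurd (cc_29.symm.trans hs.cen) (by decide +kernel)

/-- **the power maps** -/
theorem is_pw {t : ℕ} (ht : t < 44) {p : ℕ × ℕ} (hp : p ∈ D.pw t) : Is p.2 (R t ^ p.1) := by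
  refine (pw_aux ht hp).resolve_right ?_
  rintro ⟨h, ⟨rfl, h1⟩ | ⟨rfl, h1⟩ | ⟨rfl, h1⟩⟩ <;> rw [h1] at h
  · exact na6_19 h
  · exact na6_20 h
  · have h2 := (pw_aux (t := 31) (p := (2, 20)) (by norm_num) (by decide +kernel)).resolve_right (by simp)
    have h3 := isConj_pow (h2.one rfl) 2
    rw [← pow_mul] at h3
    exact na6_20 (h.conj h3.symm)

theorem ty_R {t : ℕ} (ht : t < 44) : Ty (kc Spor.J4) D tC t (R t) :=
  ⟨(rp ht).ord, fun _ hp => (is_pw ht hp).cen⟩

theorem Is.ty {t : ℕ} {g : Spor.J4} (h : Is t g) : Ty (kc Spor.J4) D tC t g := by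
  obtain ⟨k, h1, h2⟩ := h
  exact (ON.ty_coprime (ty_R (cL_ok _ h1).1) (cL_ok _ h1).2.2.1).isConj h2

theorem box {t : ℕ} (ht : t < 44) : ON.BoxR (kc Spor.J4) D tC t (tK t).length := by
  have h : ∀ t < 44, (∀ k ∈ tK t, Nat.Coprime k (D.ord t)) ∧ D.cnt t ≤ (tK t).length * (D.N / tC t) := by
    decide +kernel
  exact ⟨R t, tC t, tK t, ty_R ht, (is_R ht).cen.le, rfl, (h t ht).1, (rp ht).nc, (h t ht).2⟩

/-- **the types** -/
theorem exists_T : ∃ T : TD Spor.J4 D, T.Mass ∧ ON.Rat T ∧ ∀ g t, Is t g → T.ty g = t := by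
  obtain ⟨T, h1, h2, h3, -⟩ := ON.exists_td_rat (K := kc Spor.J4) (D := D) (val := tC) (by decide +kernel)
    (by decide +kernel) (by decide +kernel) card_J4 (fun t => (tK t).length) fun _ ht => box ht
  exact ⟨T, h1, h2, fun g t h => (h3 g t h.lt).2 h.ty⟩

set_option synthInstance.maxSize 4096 in
set_option synthInstance.maxHeartbeats 200000 in
/-- **the types of the elements of the subgroup** -/
theorem is_H {i v : ℕ} (hi : i < 26) (hv : v < 2048) : Is (tyf i v) (E (v, mP i)) := by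
  have key : ∀ s < 44, ∀ i < 26, ∀ c < 10, tO s = mE i * oQ c → tE s = mE i ∧ (tJ s = c → s = Orb.tget (mT i) 6 c ∨
      (s = 8 ∧ mE i = 3 ∧ c = 1) ∨ (s = 17 ∧ i = 15 ∧ c = 0)) := by decide +kernel
  rw [tyf_eq]
  split_ifs with h
  · obtain ⟨rfl, h⟩ := h
    exact (is_R (t := 8) (by norm_num)).conj (R_8 ▸ (a6_H hv h).symm)
  obtain ⟨s, hs⟩ := ex_is (E (v, mP i))
  obtain ⟨h1, h2⟩ := key s hs.lt i hi _ (c2_lt hi v) (hs.ord.symm.trans (ord_H hi hv))
  rcases h2 (Q_inj (tJ_lt hs.lt) (c2_lt hi v) (hs.two.trans (h1 ▸ (two_H hi hv).symm))) with h3 | ⟨rfl, h3, h4⟩ |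
    ⟨rfl, rfl, h3⟩
  · exact h3 ▸ hs
  · exact absurd (a6_rz.conj (R_8 ▸ hs.one rfl)) (na6_H hi hv h3 h4 h)
  · exact absurd ((cc_H11 hv h3).symm.trans hs.cen) (by decide +kernel)

end Cfsg.Agent.TAB.J4
end
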